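import Groth.Agent.Lib.Lech.Chi
import Mathlib.RingTheory.GradedAlgebra.Basic
import Mathlib.Algebra.DirectSum.Decomposition
import Mathlib.Algebra.GradedMulAction

/-!
# Graded modules: multiplicity from homogeneous parameters
-/

universe u

open Filter Topology DirectSum

namespace Groth.Agent.Lib.Lech.Graded

variable {A σ : Type u} [CommRing A] [SetLike σ A] [AddSubgroupClass σ A] (𝒜 : ℕ → σ) [GradedRing 𝒜]
variable {M τ : Type u} [AddCommGroup M] [Module A M] [SetLike τ M] [AddSubgroupClass τ M]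
  (ℳ : ℕ → τ) [SetLike.GradedSMul 𝒜 ℳ] [DirectSum.Decomposition ℳ]

/-- degree `j` component -/
def proj (j : ℕ) : M →+ M where
  toFun m := (decompose ℳ m j : M)
  map_zero' := by simp
  map_add' a b := by simp

theorem proj_of_mem_same {j : ℕ} {m : M} (h : m ∈ ℳ j) : proj ℳ j m = m :=
  decompose_of_mem_same ℳ h

theorem proj_of_mem_ne {i j : ℕ} {m : M} (h : m ∈ ℳ i) (hij : i ≠ j) : proj ℳ j m = 0 :=
  decompose_of_mem_ne ℳ h hij

theorem proj_mem (j : ℕ) (m : M) : proj ℳ j m ∈ ℳ j := (decompose ℳ m j).2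

theorem smul_mem_add {i k : ℕ} {a : A} {m : M} (ha : a ∈ 𝒜 i) (hm : m ∈ ℳ k) :
    a • m ∈ ℳ (i + k) :=
  SetLike.GradedSMul.smul_mem ha hm

theorem proj_smul {i : ℕ} {a : A} (ha : a ∈ 𝒜 i) (k : ℕ) (m : M) :
    proj ℳ (i + k) (a • m) = a • proj ℳ k m := by
  induction m using DirectSum.Decomposition.inductionOn ℳ with
  | zero => simp
  | @homogeneous l m =>
    rcases eq_or_ne l k with rfl | hne
    · rw [proj_of_mem_same ℳ m.2, proj_of_mem_same ℳ (smul_mem_add 𝒜 ℳ ha m.2)]
    · rw [proj_of_mem_ne ℳ m.2 hne, smul_zero,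
        proj_of_mem_ne ℳ (smul_mem_add 𝒜 ℳ ha m.2) (by omega)]
  | add a b ha hb => rw [smul_add, map_add, map_add, ha, hb, smul_add]

theorem proj_smul_of_lt {i j : ℕ} (hij : j < i) {a : A} (ha : a ∈ 𝒜 i) (m : M) :
    proj ℳ j (a • m) = 0 := by
  induction m using DirectSum.Decomposition.inductionOn ℳ with
  | zero => simp
  | @homogeneous l m => exact proj_of_mem_ne ℳ (smul_mem_add 𝒜 ℳ ha m.2) (by omega)
  | add a b ha hb => rw [smul_add, map_add, ha, hb, add_zero]

variable (A) in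
/-- the submodule generated by the homogeneous elements of degree `> n` -/
def above (n : ℕ) : Submodule A M := Submodule.span A {m : M | ∃ k : ℕ, n < k ∧ m ∈ ℳ k}

theorem mem_above {n k : ℕ} (h : n < k) {m : M} (hm : m ∈ ℳ k) : m ∈ above A ℳ n :=
  Submodule.subset_span ⟨k, h, hm⟩

theorem above_antitone {a b : ℕ} (h : a ≤ b) : above A ℳ b ≤ above A ℳ a :=
  Submodule.span_mono fun _ ⟨k, hk, hm⟩ => ⟨k, h.trans_lt hk, hm⟩

include 𝒜 in
theorem proj_above {n : ℕ} {z : M} (hz : z ∈ above A ℳ n) : ∀ j ≤ n, proj ℳ j z = 0 := by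
  induction hz using Submodule.span_induction with
  | mem z hz =>
    obtain ⟨k, hk, hm⟩ := hz
    exact fun j hj => proj_of_mem_ne ℳ hm (by omega)
  | zero => simp
  | add a b _ _ ha hb => intro j hj; rw [map_add, ha j hj, hb j hj, add_zero]
  | smul a z _ ih =>
    intro j hj
    induction a using DirectSum.Decomposition.inductionOn 𝒜 with
    | zero => simp
    | @homogeneous i a =>
      rcases lt_or_ge j i with h | h
      · exact proj_smul_of_lt 𝒜 ℳ h a.2 z
      · obtain ⟨k, rfl⟩ := Nat.exists_eq_add_of_le h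
        rw [proj_smul 𝒜 ℳ a.2, ih k (by omega), smul_zero]
    | add a b ha hb => rw [add_smul, map_add, ha, hb, add_zero]

variable {d : ℕ} {D : ℕ} (y : Fin d → A) (hy : ∀ i, y i ∈ 𝒜 D)

include hy in
theorem proj_mem_smul {w : M} (hw : w ∈ Ideal.span (Set.range y) • (⊤ : Submodule A M)) (j : ℕ) :
    proj ℳ j w ∈ Ideal.span (Set.range y) •
      Submodule.span A {m : M | ∃ k : ℕ, D + k = j ∧ m ∈ ℳ k} := by
  refine Submodule.smul_induction_on hw (fun a ha m _ => ?_) fun p q hp hq => ?_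
  · induction ha using Submodule.span_induction generalizing m with
    | mem a ha =>
      obtain ⟨i, rfl⟩ := ha
      rcases lt_or_ge j D with h | h
      · rw [proj_smul_of_lt 𝒜 ℳ h (hy i)]; exact zero_mem _
      · obtain ⟨k, rfl⟩ := Nat.exists_eq_add_of_le h
        rw [proj_smul 𝒜 ℳ (hy i)]
        exact Submodule.smul_mem_smul (Ideal.subset_span ⟨i, rfl⟩)
          (Submodule.subset_span ⟨k, rfl, proj_mem ℳ k m⟩)
    | zero => rw [zero_smul, map_zero]; exact zero_mem _
    | add a b _ _ ha hb => rw [add_smul, map_add]; exact add_mem (ha m trivial) (hb m trivial)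
    | smul c a _ ha => rw [smul_eq_mul, mul_comm, mul_smul]; exact ha (c • m) trivial
  · rw [map_add]; exact add_mem hp hq

include hy in
theorem exists_above_le (hfl : IsFiniteLength A (M ⧸ Ideal.span (Set.range y) • (⊤ : Submodule A M))) :
    ∃ C : ℕ, ∀ t : ℕ, above A ℳ (t * D + C) ≤ Ideal.span (Set.range y) ^ (t + 1) • ⊤ := by
  set N : Submodule A M := Ideal.span (Set.range y) • ⊤ with hN
  have : IsArtinian A (M ⧸ N) := (isFiniteLength_iff_isNoetherian_isArtinian.1 hfl).2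
  obtain ⟨C, hC⟩ := IsArtinian.monotone_stabilizes
    (⟨fun k => OrderDual.toDual ((above A ℳ k).map N.mkQ), fun a b h =>
      Submodule.map_mono (above_antitone ℳ h)⟩ : ℕ →o (Submodule A (M ⧸ N))ᵒᵈ)
  have h0 : ∀ j, C < j → ∀ m ∈ ℳ j, m ∈ N := by
    intro j hj m hm
    have h1 : N.mkQ m ∈ (above A ℳ j).map N.mkQ := by
      have e : (above A ℳ C).map N.mkQ = (above A ℳ j).map N.mkQ :=
        OrderDual.toDual.injective (hC j hj.le)
      rw [← e]
      exact Submodule.mem_map_of_mem (mem_above ℳ hj hm)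
    obtain ⟨p, hp, hpm⟩ := h1
    have h2 : p - m ∈ N := (Submodule.Quotient.eq N).1 hpm
    have h3 := proj_mem_smul 𝒜 ℳ y hy h2 j
    rw [map_sub, proj_above 𝒜 ℳ hp j le_rfl, proj_of_mem_same ℳ hm, zero_sub, neg_mem_iff] at h3
    exact Submodule.smul_mono le_rfl le_top h3
  refine ⟨C, fun t => ?_⟩
  induction t with
  | zero =>
    rw [zero_mul, zero_add, zero_add, pow_one]
    exact Submodule.span_le.2 fun m ⟨j, hj, hm⟩ => h0 j hj m hm
  | succ t ih =>
    refine Submodule.span_le.2 fun m ⟨j, hj, hm⟩ => ?_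
    have h3 := proj_mem_smul 𝒜 ℳ y hy (h0 j (lt_of_le_of_lt (Nat.le_add_left _ _) hj) m hm) j
    rw [proj_of_mem_same ℳ hm] at h3
    rw [pow_succ', Submodule.mul_smul]
    refine Submodule.smul_mono le_rfl (le_trans (Submodule.span_le.2 ?_) ih) h3
    rintro z ⟨k, hk, hz⟩
    exact mem_above ℳ (by rw [add_mul, one_mul] at hj; omega) hz

include hy in
theorem pow_smul_le_span (t : ℕ) :
    Ideal.span (Set.range y) ^ t • (⊤ : Submodule A M) ≤
      Submodule.span A {m : M | ∃ k : ℕ, t * D ≤ k ∧ m ∈ ℳ k} := by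
  induction t with
  | zero =>
    intro m _
    classical
    rw [← DirectSum.sum_support_decompose ℳ m]
    exact sum_mem fun k _ => Submodule.subset_span ⟨k, by simp, (decompose ℳ m k).2⟩
  | succ t ih =>
    rw [pow_succ', Submodule.mul_smul]
    refine le_trans (Submodule.smul_mono le_rfl ih) ?_
    rw [Ideal.span, Submodule.span_smul_span, Submodule.span_le]
    rintro _ ⟨_, ⟨i, rfl⟩, z, ⟨k, hk, hz⟩, rfl⟩
    exact Submodule.subset_span ⟨D + k, by rw [add_mul, one_mul]; omega, smul_mem_add 𝒜 ℳ (hy i) hz⟩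

include hy in
theorem pow_smul_le_above {t n : ℕ} (h : n < t * D) :
    Ideal.span (Set.range y) ^ t • (⊤ : Submodule A M) ≤ above A ℳ n :=
  (pow_smul_le_span 𝒜 ℳ y hy t).trans
    (Submodule.span_le.2 fun _ ⟨_, hk, hm⟩ => mem_above ℳ (h.trans_le hk) hm)

end Groth.Agent.Lib.Lech.Graded

namespace Groth.Agent.Lib.Lech

/-- reparametrising a limit `f t / t^r` along `t n ~ n / D` -/
theorem tendsto_comp_scaled {r D : ℕ} (hD : 0 < D) (K : ℕ) (f : ℕ → ℝ) (L : ℝ)
    (h : Tendsto (fun t : ℕ => f t / (t : ℝ) ^ r) atTop (𝓝 L)) (t : ℕ → ℕ)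
    (h1 : ∀ n, t n * D ≤ n + K) (h2 : ∀ n, n ≤ t n * D + K) :
    Tendsto (fun n : ℕ => f (t n) / (n : ℝ) ^ r) atTop (𝓝 (L / (D : ℝ) ^ r)) := by
  have hD' : (0 : ℝ) < D := Nat.cast_pos.2 hD
  have hk := tendsto_const_div_atTop_nhds_zero_nat (K : ℝ)
  have ht : Tendsto (fun n : ℕ => (t n : ℝ) / (n : ℝ)) atTop (𝓝 (1 / (D : ℝ))) := by
    refine tendsto_of_tendsto_of_tendsto_of_le_of_le'
      (g := fun n : ℕ => (1 - (K : ℝ) / n) / D) (h := fun n : ℕ => (1 + (K : ℝ) / n) / D)
      ?_ ?_ ?_ ?_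
    · simpa using ((tendsto_const_nhds (x := (1 : ℝ))).sub hk).div_const (D : ℝ)
    · simpa using ((tendsto_const_nhds (x := (1 : ℝ))).add hk).div_const (D : ℝ)
    all_goals
      filter_upwards [eventually_ne_atTop 0] with n hn
      have hn' : (0 : ℝ) < n := Nat.cast_pos.2 (Nat.pos_of_ne_zero hn)
      have a : (t n : ℝ) * D ≤ n + K := by exact_mod_cast h1 n
      have b : (n : ℝ) ≤ t n * D + K := by exact_mod_cast h2 n
      rw [div_le_div_iff₀ (by positivity) (by positivity)]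
      field_simp
      nlinarith
  have htop : Tendsto t atTop atTop := tendsto_atTop_atTop.2 fun b => ⟨b * D + K, fun n hn => by
    have := h2 n
    exact Nat.le_of_mul_le_mul_right (by omega : b * D ≤ t n * D) hD⟩
  have := (h.comp htop).mul (ht.pow r)
  rw [div_pow, one_pow, mul_one_div] at this
  refine this.congr' ?_
  filter_upwards [eventually_ge_atTop (D + K)] with n hn
  have : (t n : ℝ) ≠ 0 := by
    have := h2 n
    refine Nat.cast_ne_zero.2 fun h0 => ?_
    rw [h0, zero_mul] at this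
    omega
  have hn0 : (n : ℝ) ≠ 0 := Nat.cast_ne_zero.2 (by omega)
  simp only [Function.comp_apply]
  rw [div_pow, div_mul_div_comm, mul_comm ((t n : ℝ) ^ r),
    mul_div_mul_right _ _ (pow_ne_zero _ this)]

end Groth.Agent.Lib.Lech
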