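import Groth.Agent.Lib.Lech.OrdSpan
import Groth.Agent.Lib.Lech.Graded
import Mathlib.RingTheory.MvPolynomial.Homogeneous
import Mathlib.RingTheory.Finiteness.Basic
import Mathlib.RingTheory.Artinian.Ring

/-!
# Hilbert functions over a polynomial ring with Artinian coefficients
-/

universe u

open Filter MvPolynomial

namespace Groth.Agent.Lib.Lech.GradedHilbert

/-- `i ↦ C(i - s + K, K)` in the binomial basis `C(i + k, k)`, `k ≤ K`. -/
theorem exists_basis (s K : ℕ) : ∃ c : ℕ → ℤ, (∀ k, K < k → c k = 0) ∧ ∀ i, s ≤ i →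
    (((i - s + K).choose K : ℕ) : ℤ) =
      ∑ k ∈ Finset.range (K + 1), c k * ((i + k).choose k : ℤ) := by
  induction s generalizing K with
  | zero =>
    refine ⟨fun k => if k = K then 1 else 0, fun k hk => if_neg hk.ne', fun i _ => ?_⟩
    simp [Finset.sum_ite_eq', Finset.mem_range]
  | succ s ih =>
    rcases K with _ | K
    · exact ⟨fun k => if k = 0 then 1 else 0, fun k hk => if_neg hk.ne', fun i _ => by simp⟩
    obtain ⟨c1, h1, e1⟩ := ih (K + 1)
    obtain ⟨c2, h2, e2⟩ := ih K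
    refine ⟨fun k => c1 k - c2 k, fun k hk => by simp only; rw [h1 k hk, h2 k (by omega), sub_zero],
      fun i hi => ?_⟩
    have hp : (i - s + (K + 1)).choose (K + 1) =
        (i - s + K).choose K + (i - (s + 1) + (K + 1)).choose (K + 1) := by
      rw [show i - s + (K + 1) = i - s + K + 1 from rfl, Nat.choose_succ_succ',
        show i - (s + 1) + (K + 1) = i - s + K by omega]
    have e1' := e1 i (by omega)
    have e2' := e2 i (by omega)
    rw [hp, Nat.cast_add, e2'] at e1'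
    simp only [sub_mul, Finset.sum_sub_distrib]
    rw [← e1', Finset.sum_range_succ (f := fun k => c2 k * ((i + k).choose k : ℤ)) (n := K + 1), h2 (K + 1) (by omega)]
    ring

/-- `i ↦ multichoose k (i - s)` eventually, in the binomial basis with fewer than `d` terms. -/
theorem exists_basis_multichoose {d k : ℕ} (hk : k ≤ d) (s : ℕ) :
    ∃ c : Fin d → ℤ, ∀ i, s < i →
      ((k.multichoose (i - s) : ℕ) : ℤ) = ∑ j : Fin d, c j * ((i + (j : ℕ)).choose (j : ℕ) : ℤ) := by
  rcases k with _ | K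
  · refine ⟨0, fun i hi => ?_⟩
    obtain ⟨u, hu⟩ : ∃ u, i - s = u + 1 := ⟨i - s - 1, by omega⟩
    simp [hu, Nat.multichoose_zero_succ]
  obtain ⟨c, hc, e⟩ := exists_basis s K
  refine ⟨fun j => c j, fun i hi => ?_⟩
  rw [Nat.multichoose_eq, show K + 1 + (i - s) - 1 = i - s + K by omega,
    Nat.choose_symm_add, e i hi.le, Fin.sum_univ_eq_sum_range (fun j => c j * ((i + j).choose j : ℤ))]
  exact Finset.sum_subset (Finset.range_mono hk) fun j _ hj => by
    rw [hc j (by simpa using hj), zero_mul]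

variable {A₀ : Type u} [CommRing A₀] {d : ℕ}
variable {M : Type u} [AddCommGroup M] [Module (MvPolynomial (Fin d) A₀) M] [Module A₀ M]
  [IsScalarTower A₀ (MvPolynomial (Fin d) A₀) M]
  (ℳ : ℕ → Submodule A₀ M) [DirectSum.Decomposition ℳ]
  [SetLike.GradedSMul (MvPolynomial.homogeneousSubmodule (Fin d) A₀) ℳ]

attribute [local instance] MvPolynomial.gradedAlgebra

theorem mon_mem_homog (α : Fin d → ℕ) :
    mon (X : Fin d → MvPolynomial (Fin d) A₀) α ∈ homogeneousSubmodule (Fin d) A₀ (deg α) :=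
  IsHomogeneous.prod _ _ _ fun i _ => isHomogeneous_X_pow i _

theorem monomial_eq_smul_mon (s : Fin d →₀ ℕ) (a : A₀) :
    monomial s a = a • mon (X : Fin d → MvPolynomial (Fin d) A₀) s := by
  rw [monomial_eq, Finsupp.prod_fintype _ _ fun i => pow_zero _, MvPolynomial.smul_eq_C_mul]
  rfl

variable {G : ℕ} (g : Fin G → M) (e : Fin G → ℕ) (hg : ∀ l, g l ∈ ℳ (e l))

/-- indices in degree `i` -/
def idx (i : ℕ) : Finset (Σ _ : Fin G, Fin d → ℕ) :=
  Finset.univ.sigma fun l => if e l ≤ i then Finset.univ.piAntidiag (i - e l) else ∅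

theorem mem_idx {i : ℕ} {b : Σ _ : Fin G, Fin d → ℕ} : b ∈ idx e i ↔ e b.1 + deg b.2 = i := by
  simp only [idx, Finset.mem_sigma, Finset.mem_univ, true_and, deg]
  split_ifs with h
  · simp only [Finset.mem_piAntidiag, Finset.mem_univ, implies_true, and_true]
    change (∑ j, b.2 j = i - e b.1) ↔ _
    constructor <;> intro h' <;> omega
  · simp only [Finset.notMem_empty, false_iff]
    omega

/-- the key -/
def key' (b : Σ _ : Fin G, Fin d → ℕ) : Fin G ×ₗ (ℕ ×ₗ Lex (Fin d → ℕ)) := toLex (b.1, key b.2)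

theorem key'_injective : Function.Injective (key' (G := G) (d := d)) := by
  rintro ⟨l, α⟩ ⟨l', α'⟩ h
  simp only [key', toLex_inj, Prod.mk.injEq] at h
  rw [h.1, key_injective h.2]

/-- the component of degree `i` of `x^α g_l` -/
noncomputable def gen (i : ℕ) (b : Σ _ : Fin G, Fin d → ℕ) : A₀ →ₗ[A₀] ℳ i :=
  LinearMap.toSpanSingleton A₀ (ℳ i)
    ⟨Graded.proj ℳ i (mon (X : Fin d → MvPolynomial (Fin d) A₀) b.2 • g b.1),
      Graded.proj_mem ℳ i _⟩

include hg

theorem smul_mem (b : Σ _ : Fin G, Fin d → ℕ) :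
    mon (X : Fin d → MvPolynomial (Fin d) A₀) b.2 • g b.1 ∈ ℳ (e b.1 + deg b.2) := by
  rw [add_comm]
  exact Graded.smul_mem_add (homogeneousSubmodule (Fin d) A₀) ℳ (mon_mem_homog b.2) (hg b.1)

theorem gen_apply {i : ℕ} {b : Σ _ : Fin G, Fin d → ℕ} (hb : e b.1 + deg b.2 = i) :
    ((gen ℳ g i b 1 : ℳ i) : M) = mon (X : Fin d → MvPolynomial (Fin d) A₀) b.2 • g b.1 := by
  subst hb
  simp [gen, Graded.proj_of_mem_same ℳ (smul_mem ℳ g e hg b)]

theorem gen_eq_zero {i : ℕ} {b : Σ _ : Fin G, Fin d → ℕ} (hb : e b.1 + deg b.2 ≠ i) :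
    gen ℳ g i b = 0 := by
  refine LinearMap.ext_ring (Subtype.ext ?_)
  simp [gen, Graded.proj_of_mem_ne ℳ (smul_mem ℳ g e hg b) hb]

theorem iSup_range_gen (hgen : Submodule.span (MvPolynomial (Fin d) A₀) (Set.range g) = ⊤) (i : ℕ) :
    (⨆ b ∈ idx (d := d) e i, LinearMap.range (gen ℳ g i b)) = ⊤ := by
  set T := ⨆ b ∈ idx (d := d) e i, LinearMap.range (gen ℳ g i b)
  have key : ∀ m : M, (⟨Graded.proj ℳ i m, Graded.proj_mem ℳ i m⟩ : ℳ i) ∈ T := by
    intro m
    have hm : m ∈ Submodule.span (MvPolynomial (Fin d) A₀) (Set.range g) := hgen ▸ trivial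
    obtain ⟨c, rfl⟩ := (Submodule.mem_span_range_iff_exists_fun _).1 hm
    have : (⟨Graded.proj ℳ i (∑ l, c l • g l), Graded.proj_mem ℳ i _⟩ : ℳ i) =
        ∑ l, (⟨Graded.proj ℳ i (c l • g l), Graded.proj_mem ℳ i _⟩ : ℳ i) :=
      Subtype.ext (by simp [map_sum])
    rw [this]
    refine sum_mem fun l _ => ?_
    generalize c l = p
    induction p using MvPolynomial.induction_on' with
    | monomial s a =>
      have e' : (⟨Graded.proj ℳ i (monomial s a • g l), Graded.proj_mem ℳ i _⟩ : ℳ i) =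
          a • gen ℳ g i ⟨l, s⟩ 1 := by
        refine Subtype.ext ?_
        rcases eq_or_ne (e l + deg (⇑s)) i with hb | hb
        · rw [Submodule.coe_smul, gen_apply ℳ g e hg (b := ⟨l, s⟩) hb, monomial_eq_smul_mon,
            smul_assoc]
          subst hb
          exact Graded.proj_of_mem_same ℳ ((ℳ _).smul_mem a (smul_mem ℳ g e hg ⟨l, s⟩))
        · rw [Submodule.coe_smul, gen_eq_zero ℳ g e hg (b := ⟨l, s⟩) hb, monomial_eq_smul_mon,
            smul_assoc]
          simpa using Graded.proj_of_mem_ne ℳ ((ℳ _).smul_mem a (smul_mem ℳ g e hg ⟨l, s⟩)) hb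
      rw [e']
      rcases eq_or_ne (e l + deg (⇑s)) i with hb | hb
      · exact Submodule.smul_mem _ a (Submodule.mem_iSup_of_mem (⟨l, s⟩ : Σ _ : Fin G, Fin d → ℕ)
          (Submodule.mem_iSup_of_mem ((mem_idx e).2 hb) ⟨1, rfl⟩))
      · rw [gen_eq_zero ℳ g e hg (b := ⟨l, s⟩) hb]; simp
    | add p q hp hq =>
      have e' : (⟨Graded.proj ℳ i ((p + q) • g l), Graded.proj_mem ℳ i _⟩ : ℳ i) =
          ⟨Graded.proj ℳ i (p • g l), Graded.proj_mem ℳ i _⟩ +
            ⟨Graded.proj ℳ i (q • g l), Graded.proj_mem ℳ i _⟩ :=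
        Subtype.ext (by simp [add_smul])
      rw [e']
      exact add_mem hp hq
  rw [eq_top_iff]
  intro z _
  have := key (z : M)
  simp only [Graded.proj_of_mem_same ℳ z.2] at this
  exact this

variable [IsArtinianRing A₀]

/-- Hilbert's theorem. -/
theorem exists_form (hgen : Submodule.span (MvPolynomial (Fin d) A₀) (Set.range g) = ⊤) :
    ∃ c : Fin d → ℤ, ∃ N : ℕ, ∀ i : ℕ, N ≤ i →
      ∃ ℓ : ℕ, Module.length A₀ (ℳ i) = ℓ ∧
        (ℓ : ℤ) = ∑ k : Fin d, c k * ((i + (k : ℕ)).choose (k : ℕ) : ℤ) := by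
  classical
  let Jd : (i : ℕ) → (Σ _ : Fin G, Fin d → ℕ) → Submodule A₀ A₀ := fun i b =>
    (after (⊥ : Submodule A₀ (ℳ i)) (gen ℳ g i) key' (idx e i) b).comap (gen ℳ g i b)
  have hfin : ∀ i b, Module.length A₀ (A₀ ⧸ Jd i b) ≠ ⊤ := fun i b =>
    Module.length_ne_top_iff.2 (isFiniteLength_iff_isNoetherian_isArtinian.2
      ⟨inferInstance, inferInstance⟩)
  let cl : Fin G → (Fin d → ℕ) → ℕ := fun l α =>
    (Module.length A₀ (A₀ ⧸ Jd (e l + deg α) ⟨l, α⟩)).toNat
  have hanti : ∀ l α β, α ≤ β → cl l β ≤ cl l α := fun l α β hle => by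
    obtain ⟨f, rfl⟩ : ∃ f, β = α + f :=
      ⟨fun i => β i - α i, funext fun i => (Nat.add_sub_cancel' (hle i)).symm⟩
    refine ENat.toNat_le_toNat (Module.length_le_of_surjective _ (Submodule.factor_surjective ?_))
      (hfin _ _)
    let μ : ℳ (e l + deg α) →ₗ[A₀] ℳ (e l + deg (α + f)) := LinearMap.codRestrict _
      ((LinearMap.lsmul (MvPolynomial (Fin d) A₀) M (mon (X : Fin d → MvPolynomial (Fin d) A₀) f)).restrictScalars A₀ ∘ₗ
        (ℳ (e l + deg α)).subtype) fun z => by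
      have := Graded.smul_mem_add (homogeneousSubmodule (Fin d) A₀) ℳ (mon_mem_homog f) z.2
      rw [show deg f + (e l + deg α) = e l + deg (α + f) by rw [deg_add]; ring] at this
      exact this
    let σ : (Σ _ : Fin G, Fin d → ℕ) → (Σ _ : Fin G, Fin d → ℕ) := fun b => ⟨b.1, b.2 + f⟩
    have hcomp : ∀ b ∈ idx e (e l + deg α),
        μ ∘ₗ gen ℳ g _ b = gen ℳ g (e l + deg (α + f)) (σ b) := fun b hb => by
      rw [mem_idx] at hb
      refine LinearMap.ext_ring (Subtype.ext ?_)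
      rw [gen_apply ℳ g e hg (b := σ b)
        (show e b.1 + deg (b.2 + f) = _ by rw [deg_add, deg_add, ← add_assoc, hb, add_assoc])]
      show mon (X : Fin d → MvPolynomial (Fin d) A₀) f • ((gen ℳ g _ b 1 : ℳ (e l + deg α)) : M) = _
      rw [gen_apply ℳ g e hg hb]
      show _ = mon (X : Fin d → MvPolynomial (Fin d) A₀) (b.2 + f) • g b.1
      rw [mon_add, mul_comm, mul_smul]
    show (after (⊥ : Submodule A₀ (ℳ (e l + deg α))) (gen ℳ g (e l + deg α)) key'
        (idx e (e l + deg α)) ⟨l, α⟩).comap (gen ℳ g (e l + deg α) ⟨l, α⟩) ≤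
      (after (⊥ : Submodule A₀ (ℳ (e l + deg (α + f)))) (gen ℳ g (e l + deg (α + f))) key'
        (idx e (e l + deg (α + f))) (σ ⟨l, α⟩)).comap (gen ℳ g (e l + deg (α + f)) (σ ⟨l, α⟩))
    refine comap_after_le (A := A₀) (V := A₀) μ σ (hcomp ⟨l, α⟩ ((mem_idx e).2 rfl)) (by simp) hcomp
      fun b hb hlt => ⟨?_, ?_⟩
    · rw [mem_idx] at hb ⊢
      show e b.1 + deg (b.2 + f) = _
      rw [deg_add, deg_add, ← add_assoc, hb, add_assoc]
    · rcases Prod.Lex.toLex_lt_toLex.1 hlt with h | ⟨h1, h2⟩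
      · exact Prod.Lex.toLex_lt_toLex.2 (Or.inl h)
      · exact Prod.Lex.toLex_lt_toLex.2 (Or.inr ⟨h1, key_add_lt h2 f⟩)
  have hlen : ∀ i, Module.length A₀ (ℳ i) =
      ((∑ l, if e l ≤ i then ∑ α ∈ Finset.univ.piAntidiag (i - e l), cl l α else 0 : ℕ) : ℕ∞) := by
    intro i
    have h := length_ordSpan (⊥ : Submodule A₀ (ℳ i)) (gen (d := d) ℳ g i) key' key'_injective (idx e i)
    rw [(Submodule.quotEquivOfEqBot (⊥ : Submodule A₀ (ℳ i)) rfl).length_eq, bot_sup_eq,
      iSup_range_gen ℳ g e hg hgen] at h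
    rw [Module.length_eq_zero (M := ℳ i ⧸ (⊤ : Submodule A₀ (ℳ i))), zero_add] at h
    rw [h, idx, Finset.sum_sigma, Nat.cast_sum]
    refine Finset.sum_congr rfl fun l _ => ?_
    split_ifs with hl
    · rw [Nat.cast_sum]
      refine Finset.sum_congr rfl fun α hα => ?_
      have hi : e l + deg α = i := by
        rw [Finset.mem_piAntidiag] at hα
        rw [deg]
        have := hα.1
        change ∑ j, α j = i - e l at this
        omega
      subst hi
      exact (ENat.natCast_toNat (hfin _ _)).symm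
    · simp
  choose Nl hNl using fun l => exists_clamp (cl l) (hanti l)
  choose c hc using fun (l : Fin G) (p : Fin d → ℕ) =>
    exists_basis_multichoose (d := d) (k := (free (Nl l) p).card)
      ((card_free_le _ _).trans (by simp)) (e l + ∑ j, p j)
  refine ⟨fun k => ∑ l, ∑ p ∈ corner (Nl l), (cl l p : ℤ) * c l p k,
    ∑ l, (e l + d * Nl l + 1), fun i hi => ⟨_, hlen i, ?_⟩⟩
  rw [Nat.cast_sum]
  simp only [Finset.sum_mul, mul_assoc]
  rw [Finset.sum_comm]
  refine Finset.sum_congr rfl fun l _ => ?_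
  have hl : e l + d * Nl l + 1 ≤ i :=
    le_trans (Finset.single_le_sum (f := fun l => e l + d * Nl l + 1)
      (fun _ _ => Nat.zero_le _) (Finset.mem_univ l)) hi
  rw [if_pos (by omega), sum_eq_sum_corner (hNl l), Finset.sum_comm, Nat.cast_sum]
  refine Finset.sum_congr rfl fun p hp => ?_
  have hpN : ∑ j, p j ≤ d * Nl l := by
    refine (Finset.sum_le_card_nsmul _ _ (Nl l) fun j _ => ?_).trans (by simp)
    simp only [corner, Fintype.mem_piFinset, Finset.mem_range] at hp
    exact Nat.lt_succ_iff.1 (hp j)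
  rw [card_fibre_eq hp (by omega), Nat.cast_mul, Nat.sub_sub, hc l p i (by omega), Finset.mul_sum]

/-- The Hilbert function as a finite positive combination of binomial functions, in every degree. -/
theorem exists_exact_form (hgen : Submodule.span (MvPolynomial (Fin d) A₀) (Set.range g) = ⊤) :
    ∃ (I : Finset (Σ _ : Fin G, Fin d → ℕ)) (w k q : (Σ _ : Fin G, Fin d → ℕ) → ℕ),
      (∀ b, k b ≤ d) ∧ ∀ i : ℕ, Module.length A₀ (ℳ i) =
        ((∑ b ∈ I, if q b ≤ i then w b * (k b).multichoose (i - q b) else 0 : ℕ) : ℕ∞) := by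
  classical
  let Jd : (i : ℕ) → (Σ _ : Fin G, Fin d → ℕ) → Submodule A₀ A₀ := fun i b =>
    (after (⊥ : Submodule A₀ (ℳ i)) (gen ℳ g i) key' (idx e i) b).comap (gen ℳ g i b)
  have hfin : ∀ i b, Module.length A₀ (A₀ ⧸ Jd i b) ≠ ⊤ := fun i b =>
    Module.length_ne_top_iff.2 (isFiniteLength_iff_isNoetherian_isArtinian.2
      ⟨inferInstance, inferInstance⟩)
  let cl : Fin G → (Fin d → ℕ) → ℕ := fun l α =>
    (Module.length A₀ (A₀ ⧸ Jd (e l + deg α) ⟨l, α⟩)).toNat
  have hanti : ∀ l α β, α ≤ β → cl l β ≤ cl l α := fun l α β hle => by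
    obtain ⟨f, rfl⟩ : ∃ f, β = α + f :=
      ⟨fun i => β i - α i, funext fun i => (Nat.add_sub_cancel' (hle i)).symm⟩
    refine ENat.toNat_le_toNat (Module.length_le_of_surjective _ (Submodule.factor_surjective ?_))
      (hfin _ _)
    let μ : ℳ (e l + deg α) →ₗ[A₀] ℳ (e l + deg (α + f)) := LinearMap.codRestrict _
      ((LinearMap.lsmul (MvPolynomial (Fin d) A₀) M (mon (X : Fin d → MvPolynomial (Fin d) A₀) f)).restrictScalars A₀ ∘ₗ
        (ℳ (e l + deg α)).subtype) fun z => by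
      have := Graded.smul_mem_add (homogeneousSubmodule (Fin d) A₀) ℳ (mon_mem_homog f) z.2
      rw [show deg f + (e l + deg α) = e l + deg (α + f) by rw [deg_add]; ring] at this
      exact this
    let σ : (Σ _ : Fin G, Fin d → ℕ) → (Σ _ : Fin G, Fin d → ℕ) := fun b => ⟨b.1, b.2 + f⟩
    have hcomp : ∀ b ∈ idx e (e l + deg α),
        μ ∘ₗ gen ℳ g _ b = gen ℳ g (e l + deg (α + f)) (σ b) := fun b hb => by
      rw [mem_idx] at hb
      refine LinearMap.ext_ring (Subtype.ext ?_)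
      rw [gen_apply ℳ g e hg (b := σ b)
        (show e b.1 + deg (b.2 + f) = _ by rw [deg_add, deg_add, ← add_assoc, hb, add_assoc])]
      show mon (X : Fin d → MvPolynomial (Fin d) A₀) f • ((gen ℳ g _ b 1 : ℳ (e l + deg α)) : M) = _
      rw [gen_apply ℳ g e hg hb]
      show _ = mon (X : Fin d → MvPolynomial (Fin d) A₀) (b.2 + f) • g b.1
      rw [mon_add, mul_comm, mul_smul]
    show (after (⊥ : Submodule A₀ (ℳ (e l + deg α))) (gen ℳ g (e l + deg α)) key'
        (idx e (e l + deg α)) ⟨l, α⟩).comap (gen ℳ g (e l + deg α) ⟨l, α⟩) ≤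
      (after (⊥ : Submodule A₀ (ℳ (e l + deg (α + f)))) (gen ℳ g (e l + deg (α + f))) key'
        (idx e (e l + deg (α + f))) (σ ⟨l, α⟩)).comap (gen ℳ g (e l + deg (α + f)) (σ ⟨l, α⟩))
    refine comap_after_le (A := A₀) (V := A₀) μ σ (hcomp ⟨l, α⟩ ((mem_idx e).2 rfl)) (by simp) hcomp
      fun b hb hlt => ⟨?_, ?_⟩
    · rw [mem_idx] at hb ⊢
      show e b.1 + deg (b.2 + f) = _
      rw [deg_add, deg_add, ← add_assoc, hb, add_assoc]
    · rcases Prod.Lex.toLex_lt_toLex.1 hlt with h | ⟨h1, h2⟩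
      · exact Prod.Lex.toLex_lt_toLex.2 (Or.inl h)
      · exact Prod.Lex.toLex_lt_toLex.2 (Or.inr ⟨h1, key_add_lt h2 f⟩)
  have hlen : ∀ i, Module.length A₀ (ℳ i) =
      ((∑ l, if e l ≤ i then ∑ α ∈ Finset.univ.piAntidiag (i - e l), cl l α else 0 : ℕ) : ℕ∞) := by
    intro i
    have h := length_ordSpan (⊥ : Submodule A₀ (ℳ i)) (gen (d := d) ℳ g i) key' key'_injective (idx e i)
    rw [(Submodule.quotEquivOfEqBot (⊥ : Submodule A₀ (ℳ i)) rfl).length_eq, bot_sup_eq,
      iSup_range_gen ℳ g e hg hgen] at h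
    rw [Module.length_eq_zero (M := ℳ i ⧸ (⊤ : Submodule A₀ (ℳ i))), zero_add] at h
    rw [h, idx, Finset.sum_sigma, Nat.cast_sum]
    refine Finset.sum_congr rfl fun l _ => ?_
    split_ifs with hl
    · rw [Nat.cast_sum]
      refine Finset.sum_congr rfl fun α hα => ?_
      have hi : e l + deg α = i := by
        rw [Finset.mem_piAntidiag] at hα
        rw [deg]
        have := hα.1
        change ∑ j, α j = i - e l at this
        omega
      subst hi
      exact (ENat.natCast_toNat (hfin _ _)).symm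
    · simp
  choose Nl hNl using fun l => exists_clamp (cl l) (hanti l)
  refine ⟨Finset.univ.sigma fun l => corner (Nl l), fun b => cl b.1 b.2,
    fun b => (free (Nl b.1) b.2).card, fun b => e b.1 + ∑ j, b.2 j,
    fun b => (card_free_le _ _).trans (by simp), fun i => ?_⟩
  rw [hlen i, Finset.sum_sigma]
  congr 1
  refine Finset.sum_congr rfl fun l _ => ?_
  split_ifs with hl
  · rw [sum_eq_sum_corner (hNl l)]
    refine Finset.sum_congr rfl fun p hp => ?_
    by_cases hq : ∑ j, p j ≤ i - e l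
    · rw [if_pos (show e l + ∑ j, p j ≤ i by omega), card_fibre_eq hp hq, Nat.sub_sub]
    · rw [if_neg (show ¬ e l + ∑ j, p j ≤ i by omega), Finset.card_eq_zero.2, mul_zero]
      rw [Finset.filter_eq_empty_iff]
      intro α hα he
      have h1 : ∑ j, α j = i - e l := (Finset.mem_piAntidiag.1 hα).1
      have h2 : ∑ j, p j ≤ ∑ j, α j := Finset.sum_le_sum fun j _ => he ▸ min_le_left _ _
      omega
  · exact (Finset.sum_eq_zero fun p _ => if_neg (show ¬ e l + ∑ j, p j ≤ i by omega)).symm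

end Groth.Agent.Lib.Lech.GradedHilbert
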