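import Groth.Agent.Lib.Lech.GrDim
import Groth.Agent.Lib.Lech.GradedHilbert
import Mathlib.RingTheory.PowerSeries.WellKnown

/-!
# Graded modules over a standard graded algebra over an Artinian ring: pieces, series, dimension
-/

set_option linter.style.haveILetI false

universe u

open Filter DirectSum

namespace Groth.Agent.Lib.Lech.GrSeries

variable {A₀ A : Type u} [CommRing A₀] [CommRing A] [Algebra A₀ A]
  (𝒜 : ℕ → Submodule A₀ A) [GradedAlgebra 𝒜]

/-- A grading given by its projections. -/
structure Gr (X : Type u) [AddCommGroup X] [Module A X] where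
  /-- the components -/
  p : ℕ → X →+ X
  idem : ∀ j k x, p j (p k x) = if j = k then p k x else 0
  smul : ∀ {i : ℕ} {a : A}, a ∈ 𝒜 i → ∀ k x, p (i + k) (a • x) = a • p k x
  smul_lt : ∀ {i j : ℕ} {a : A}, j < i → a ∈ 𝒜 i → ∀ x, p j (a • x) = 0
  bdd : ∀ x, ∃ N, ∀ T, N ≤ T → x = ∑ j ∈ Finset.range T, p j x

variable {𝒜} {X : Type u} [AddCommGroup X] [Module A X] (G : Gr 𝒜 X)

/-- truncation below `T` -/
def Gr.tau (T : ℕ) : X →+ X := ∑ j ∈ Finset.range T, G.p j

theorem Gr.p_tau (T j : ℕ) (x : X) : G.p j (G.tau T x) = if j < T then G.p j x else 0 := by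
  simp [Gr.tau, AddMonoidHom.finsetSum_apply, map_sum, G.idem, Finset.sum_ite_eq]

/-- elements with components in degrees `≥ T` only -/
def Gr.ge (T : ℕ) : Submodule A X where
  carrier := {x | ∀ j < T, G.p j x = 0}
  add_mem' ha hb j hj := by rw [map_add, ha j hj, hb j hj, add_zero]
  zero_mem' j _ := map_zero _
  smul_mem' a x hx := by
    induction a using DirectSum.Decomposition.inductionOn 𝒜 with
    | zero => intro j _; rw [zero_smul, map_zero]
    | @homogeneous i a =>
      intro j hj
      rcases lt_or_ge j i with h | h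
      · exact G.smul_lt h a.2 x
      · obtain ⟨k, rfl⟩ := Nat.exists_eq_add_of_le h
        rw [G.smul a.2, hx k (by omega), smul_zero]
    | add a b ha hb => intro j hj; rw [add_smul, map_add, ha j hj, hb j hj, add_zero]

theorem Gr.mem_ge {T : ℕ} {x : X} : x ∈ G.ge T ↔ ∀ j < T, G.p j x = 0 := Iff.rfl

theorem Gr.sub_tau_mem (T : ℕ) (x : X) : x - G.tau T x ∈ G.ge T := fun j hj => by
  rw [map_sub, G.p_tau, if_pos hj, sub_self]

theorem Gr.p_mem_ge {T j : ℕ} (h : T ≤ j) (x : X) : G.p j x ∈ G.ge T := fun k hk => by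
  rw [G.idem, if_neg (by omega)]

theorem Gr.ge_antitone {S T : ℕ} (h : S ≤ T) : G.ge T ≤ G.ge S :=
  fun _ hx j hj => hx j (lt_of_lt_of_le hj h)

variable [Module A₀ X] [IsScalarTower A₀ A X]

theorem Gr.p_smul (c : A₀) (j : ℕ) (x : X) : G.p j (c • x) = c • G.p j x := by
  rw [← algebraMap_smul A c x, ← algebraMap_smul A c (G.p j x)]
  have h := G.smul (SetLike.algebraMap_mem_graded 𝒜 c) j x
  rwa [zero_add] at h

/-- the component in degree `j` -/
def Gr.piece (j : ℕ) : Submodule A₀ X where
  carrier := {x | G.p j x = x}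
  add_mem' ha hb := by simp only [Set.mem_setOf_eq] at *; rw [map_add, ha, hb]
  zero_mem' := map_zero _
  smul_mem' c x hx := by simp only [Set.mem_setOf_eq] at *; rw [G.p_smul, hx]

theorem Gr.p_mem_piece (j : ℕ) (x : X) : G.p j x ∈ G.piece j := by
  show G.p j (G.p j x) = G.p j x
  rw [G.idem, if_pos rfl]

/-- Hilbert function -/
noncomputable def Gr.h (j : ℕ) : ℕ∞ := Module.length A₀ (G.piece j)

/-- cumulative Hilbert function -/
noncomputable def Gr.g (T : ℕ) : ℕ∞ := Module.length A₀ (X ⧸ G.ge T)

theorem Gr.g_zero : G.g 0 = 0 := by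
  have : Subsingleton (X ⧸ G.ge 0) :=
    Submodule.Quotient.subsingleton_iff.2 (eq_top_iff.2 fun x _ j hj => absurd hj (Nat.not_lt_zero j))
  exact Module.length_eq_zero

theorem Gr.g_succ (T : ℕ) : G.g (T + 1) = G.h T + G.g T := by
  have e : ∀ t, G.g t = Module.length A₀ (X ⧸ (G.ge t).restrictScalars A₀) := fun t =>
    (Submodule.Quotient.restrictScalarsEquiv A₀ (G.ge t)).length_eq.symm
  rw [e, e, Gr.h, length_split' ((G.ge (T + 1)).restrictScalars A₀) (G.piece T).subtype]
  congr 1
  · refine (Submodule.quotEquivOfEqBot _ (le_bot_iff.1 fun z hz => ?_)).length_eq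
    refine (Submodule.mem_bot A₀).2 (Subtype.ext ?_)
    have h1 : G.p T (z : X) = 0 := hz T (Nat.lt_succ_self T)
    have h2 : G.p T (z : X) = z := z.2
    show (z : X) = 0
    rw [← h2, h1]
  · refine (Submodule.quotEquivOfEq _ _ (le_antisymm (sup_le ?_ ?_) fun x hx => ?_)).length_eq
    · exact fun x hx => G.ge_antitone (Nat.le_succ T) hx
    · rw [Submodule.range_subtype]
      intro x hx
      rw [Submodule.restrictScalars_mem, ← show G.p T x = x from hx]
      exact G.p_mem_ge le_rfl x
    · rw [Submodule.range_subtype]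
      refine Submodule.mem_sup.2 ⟨x - G.p T x, fun j hj => ?_, G.p T x, G.p_mem_piece T x,
        sub_add_cancel _ _⟩
      rw [map_sub, G.idem]
      split_ifs with h
      · rw [h, sub_self]
      · rw [hx j (by omega), sub_zero]

theorem Gr.g_eq_sum (T : ℕ) : G.g T = ∑ j ∈ Finset.range T, G.h j := by
  induction T with
  | zero => rw [G.g_zero, Finset.sum_range_zero]
  | succ T ih => rw [G.g_succ, ih, Finset.sum_range_succ, add_comm]

section Std

omit [GradedAlgebra 𝒜]
variable {r : ℕ} {y : Fin r → A} (hgen : ∀ a : A, ∃ t, a ∈ GrDim.W A₀ y t)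
include hgen

theorem surjective_quot {I : Ideal A} (hI : Ideal.span (Set.range y) ≤ I) :
    Function.Surjective (algebraMap A₀ (A ⧸ I)) := by
  intro z
  obtain ⟨a, rfl⟩ := Ideal.Quotient.mk_surjective z
  obtain ⟨t, ht⟩ := hgen a
  induction ht using Submodule.span_induction with
  | mem w hw =>
    obtain ⟨α, -, rfl⟩ := hw
    rcases Nat.eq_zero_or_pos (deg α) with h | h
    · refine ⟨1, ?_⟩
      have : α = 0 := funext fun i => (Finset.sum_eq_zero_iff.1 h) i (Finset.mem_univ i)
      rw [this, mon_zero, map_one, map_one]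
    · refine ⟨0, ?_⟩
      rw [map_zero, eq_comm, Ideal.Quotient.eq_zero_iff_mem]
      exact hI (Ideal.pow_le_self (by omega) (mon_mem y α))
  | zero => exact ⟨0, by rw [map_zero, map_zero]⟩
  | add p q _ _ hp hq =>
    obtain ⟨a, ha⟩ := hp; obtain ⟨b, hb⟩ := hq
    exact ⟨a + b, by rw [map_add, map_add, ha, hb]⟩
  | smul c p _ hp =>
    obtain ⟨a, ha⟩ := hp
    refine ⟨c * a, ?_⟩
    rw [map_mul, ha, ← Algebra.smul_def]
    rfl

omit X [AddCommGroup X] [Module A X] [Module A₀ X] [IsScalarTower A₀ A X] in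
theorem length_restrict_of_kill : ∀ (t : ℕ) (X : Type u) [AddCommGroup X] [Module A X] [Module A₀ X]
    [IsScalarTower A₀ A X], (∀ a ∈ Ideal.span (Set.range y) ^ t, ∀ x : X, a • x = 0) →
    Module.length A₀ X = Module.length A X := by
  intro t
  induction t with
  | zero =>
    intro X _ _ _ _ hk
    have : Subsingleton X := ⟨fun a b => by
      rw [← one_smul A a, ← one_smul A b, hk 1 (by simp) a, hk 1 (by simp) b]⟩
    rw [Module.length_eq_zero, Module.length_eq_zero]
  | succ t ih =>
    intro X _ _ _ _ hk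
    set I := Ideal.span (Set.range y) with hI
    have key : ∀ (Y : Type u) [AddCommGroup Y] [Module A Y] [Module A₀ Y] [IsScalarTower A₀ A Y],
        (∀ a ∈ I, ∀ x : Y, a • x = 0) → Module.length A₀ Y = Module.length A Y := by
      intro Y _ _ _ _ hkY
      rw [Module.length, Module.length, WithBot.unbot_inj]
      refine Order.krullDim_eq_of_orderIso ?_
      exact
        { toFun := fun S =>
            { carrier := (S : Set Y)
              add_mem' := fun ha hb => S.add_mem ha hb
              zero_mem' := S.zero_mem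
              smul_mem' := fun a x hx => by
                obtain ⟨c, hc⟩ := surjective_quot hgen le_rfl (Ideal.Quotient.mk I a)
                have hca : algebraMap A₀ A c - a ∈ I := Ideal.Quotient.eq.1 hc
                have := hkY _ hca x
                rw [sub_smul, sub_eq_zero, algebraMap_smul] at this
                rw [← this]
                exact S.smul_mem c hx }
          invFun := fun S => S.restrictScalars A₀
          left_inv := fun S => rfl
          right_inv := fun S => rfl
          map_rel_iff' := Iff.rfl }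
    set S : Submodule A X := I • ⊤ with hS
    have h1 := Module.length_eq_add_of_exact (R := A) S.subtype S.mkQ (Submodule.injective_subtype _)
      (Submodule.mkQ_surjective _) (LinearMap.exact_subtype_mkQ _)
    have hi : Function.Injective (S.subtype.restrictScalars A₀) := Subtype.val_injective
    have hs : Function.Surjective (S.mkQ.restrictScalars A₀) := S.mkQ_surjective
    have he : Function.Exact (S.subtype.restrictScalars A₀) (S.mkQ.restrictScalars A₀) :=
      LinearMap.exact_subtype_mkQ S
    have h2 := Module.length_eq_add_of_exact (R := A₀) (S.subtype.restrictScalars A₀)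
      (S.mkQ.restrictScalars A₀) hi hs he
    rw [h1, h2, ih S (fun a ha z => Subtype.ext ?_), key (X ⧸ S) ?_]
    · intro a ha z
      obtain ⟨z, rfl⟩ := Submodule.Quotient.mk_surjective _ z
      rw [← Submodule.Quotient.mk_smul, Submodule.Quotient.mk_eq_zero]
      exact Submodule.smul_mem_smul ha trivial
    · show a • (z : X) = 0
      refine Submodule.smul_induction_on (p := fun w => a • w = 0) z.2 (fun b hb w _ => ?_) fun p q hp hq => ?_
      · rw [← mul_smul]
        exact hk _ (by rw [pow_succ]; exact Ideal.mul_mem_mul ha hb) w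
      · rw [smul_add, hp, hq, add_zero]

end Std

section Module

variable {r : ℕ} (y : Fin r → A) (hy : ∀ i, y i ∈ 𝒜 1)
include hy

theorem mon_mem_grade (α : Fin r → ℕ) : mon y α ∈ 𝒜 (deg α) := by
  have h := SetLike.prod_pow_mem_graded (A := 𝒜) (F := Finset.univ) (g := y) (i := fun _ => 1) α
    fun i _ => hy i
  simpa [deg, mon] using h

variable {G} in
theorem pow_smul_le_ge (T : ℕ) :
    Ideal.span (Set.range y) ^ T • (⊤ : Submodule A X) ≤ G.ge T := by
  induction T with
  | zero => exact fun x _ j hj => absurd hj (Nat.not_lt_zero j)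
  | succ T ih =>
    rw [pow_succ', Submodule.mul_smul, Submodule.smul_le]
    intro a ha x hx
    induction ha using Submodule.span_induction generalizing x with
    | mem w hw =>
      obtain ⟨i, rfl⟩ := hw
      intro j hj
      rcases lt_or_ge j 1 with h | h
      · exact G.smul_lt h (hy i) x
      · obtain ⟨k, rfl⟩ := Nat.exists_eq_add_of_le h
        rw [G.smul (hy i), ih hx k (by omega), smul_zero]
    | zero => rw [zero_smul]; exact zero_mem _
    | add p q _ _ hp hq => rw [add_smul]; exact add_mem (hp x hx) (hq x hx)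
    | smul c p _ hp => rw [smul_assoc]; exact Submodule.smul_mem _ c (hp x hx)

theorem g_eq_length (hgen : ∀ a : A, ∃ t, a ∈ GrDim.W A₀ y t) (T : ℕ) :
    G.g T = Module.length A (X ⧸ G.ge T) :=
  length_restrict_of_kill hgen T _ fun a ha z => by
    obtain ⟨z, rfl⟩ := Submodule.Quotient.mk_surjective _ z
    rw [← Submodule.Quotient.mk_smul, Submodule.Quotient.mk_eq_zero]
    exact pow_smul_le_ge y hy T (Submodule.smul_mem_smul ha trivial)

end Module

/-- the Hilbert series -/
noncomputable def Gr.series : PowerSeries ℤ := PowerSeries.mk fun j => ((G.h j).toNat : ℤ)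

variable {M : Type u} [AddCommGroup M] [Module A M] [Module A₀ M] [IsScalarTower A₀ A M]
  (ℳ : ℕ → Submodule A₀ M) [DirectSum.Decomposition ℳ] [SetLike.GradedSMul 𝒜 ℳ]

/-- the grading of a decomposed module -/
noncomputable def ofDecomp : Gr 𝒜 M where
  p := Graded.proj ℳ
  idem j k x := by
    split_ifs with h
    · subst h; exact Graded.proj_of_mem_same ℳ (Graded.proj_mem ℳ _ x)
    · exact Graded.proj_of_mem_ne ℳ (Graded.proj_mem ℳ _ x) (Ne.symm h)
  smul ha k x := Graded.proj_smul 𝒜 ℳ ha k x
  smul_lt h ha x := Graded.proj_smul_of_lt 𝒜 ℳ h ha x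
  bdd x := by
    classical
    refine ⟨(decompose ℳ x).support.sup id + 1, fun T hT => ?_⟩
    conv_lhs => rw [← DirectSum.sum_support_decompose ℳ x]
    refine Finset.sum_subset (fun j hj => Finset.mem_range.2 ?_) fun j _ hj => ?_
    · have := Finset.le_sup (f := id) hj
      simp only [id_eq] at this
      omega
    · simp [DFinsupp.notMem_support_iff.1 hj]

theorem piece_ofDecomp (j : ℕ) : (ofDecomp (𝒜 := 𝒜) ℳ).piece j = ℳ j :=
  le_antisymm (fun x (hx : Graded.proj ℳ j x = x) => hx ▸ Graded.proj_mem ℳ j x)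
    fun _ hx => Graded.proj_of_mem_same ℳ hx

variable [IsArtinianRing A₀] {r : ℕ} (y : Fin r → A) (hy : ∀ i, y i ∈ 𝒜 1)
  (hgen : ∀ a : A, ∃ t, a ∈ GrDim.W A₀ y t)
include hy hgen

theorem exists_gens [Module.Finite A M] :
    ∃ (N : ℕ) (g : Fin N → M) (e : Fin N → ℕ),
      (∀ l, g l ∈ ℳ (e l)) ∧ Submodule.span A (Set.range g) = ⊤ := by
  classical
  obtain ⟨s, hs⟩ := Module.Finite.fg_top (R := A) (M := M)
  let T : Finset (ℕ × M) := s.biUnion fun m =>
    (decompose ℳ m).support.image fun k => (k, (decompose ℳ m k : M))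
  refine ⟨T.card, fun l => (T.equivFin.symm l).1.2, fun l => (T.equivFin.symm l).1.1, fun l => ?_, ?_⟩
  · have hp := (T.equivFin.symm l).2
    simp only [T, Finset.mem_biUnion, Finset.mem_image] at hp
    obtain ⟨m, -, k, -, hk⟩ := hp
    show (T.equivFin.symm l).1.2 ∈ ℳ (T.equivFin.symm l).1.1
    rw [← hk]
    exact (decompose ℳ m k).2
  · rw [eq_top_iff, ← hs, Submodule.span_le]
    intro m hm
    rw [← DirectSum.sum_support_decompose ℳ m]
    refine Submodule.sum_mem _ fun k hk => Submodule.subset_span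
      ⟨T.equivFin ⟨(k, (decompose ℳ m k : M)), ?_⟩, by simp⟩
    simp only [T, Finset.mem_biUnion, Finset.mem_image]
    exact ⟨m, hm, k, hk, rfl⟩

/-- The exact shape of the Hilbert function. -/
theorem exists_form [Module.Finite A M] :
    ∃ (ι : Type) (I : Finset ι) (w k q : ι → ℕ), (∀ b, k b ≤ r) ∧ ∀ i : ℕ,
      (ofDecomp (𝒜 := 𝒜) ℳ).h i =
        ((∑ b ∈ I, if q b ≤ i then w b * (k b).multichoose (i - q b) else 0 : ℕ) : ℕ∞) := by
  classical
  obtain ⟨N, g, e, hg, hspan⟩ := exists_gens (𝒜 := 𝒜) ℳ y hy hgen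
  let φ := MvPolynomial.aeval (R := A₀) y
  letI : Module (MvPolynomial (Fin r) A₀) M := Module.compHom M φ.toRingHom
  have hsmul : ∀ (p : MvPolynomial (Fin r) A₀) (m : M), p • m = φ p • m := fun _ _ => rfl
  haveI : IsScalarTower A₀ (MvPolynomial (Fin r) A₀) M := ⟨fun c p m => by
    rw [hsmul, hsmul, map_smul, smul_assoc]⟩
  have hmap : ∀ {i : ℕ} {p : MvPolynomial (Fin r) A₀},
      p ∈ MvPolynomial.homogeneousSubmodule (Fin r) A₀ i → φ p ∈ 𝒜 i := by
    intro i p hp
    rw [MvPolynomial.as_sum p, map_sum]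
    refine sum_mem fun s hs => ?_
    have hdeg : deg (⇑s) = i := by
      rw [← hp (MvPolynomial.mem_support_iff.1 hs), deg, Finsupp.weight_apply, Finsupp.sum_fintype]
      · simp
      · simp
    rw [MvPolynomial.aeval_monomial, Finsupp.prod_fintype _ _ fun i => pow_zero _,
      ← Algebra.smul_def, ← hdeg]
    exact Submodule.smul_mem _ _ (mon_mem_grade y hy _)
  haveI : SetLike.GradedSMul (MvPolynomial.homogeneousSubmodule (Fin r) A₀) ℳ :=
    ⟨fun {i j p m} hp hm => by
      rw [hsmul]; exact SetLike.GradedSMul.smul_mem (hmap hp) hm⟩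
  have hsurj : Function.Surjective φ := fun a => by
    obtain ⟨t, ht⟩ := hgen a
    induction ht using Submodule.span_induction with
    | mem w hw =>
      obtain ⟨α, -, rfl⟩ := hw
      exact ⟨∏ i, MvPolynomial.X i ^ α i, by simp [φ, map_prod, mon]⟩
    | zero => exact ⟨0, map_zero _⟩
    | add p q _ _ hp hq =>
      obtain ⟨a, rfl⟩ := hp; obtain ⟨b, rfl⟩ := hq; exact ⟨a + b, map_add _ _ _⟩
    | smul c p _ hp => obtain ⟨a, rfl⟩ := hp; exact ⟨c • a, map_smul _ _ _⟩
  have hspan' : Submodule.span (MvPolynomial (Fin r) A₀) (Set.range g) = ⊤ := by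
    rw [eq_top_iff]
    intro m _
    obtain ⟨c, rfl⟩ := (Submodule.mem_span_range_iff_exists_fun A).1
      (show m ∈ Submodule.span A (Set.range g) from hspan ▸ trivial)
    refine Submodule.sum_mem _ fun l _ => ?_
    obtain ⟨p, hp⟩ := hsurj (c l)
    rw [← hp, ← hsmul]
    exact Submodule.smul_mem _ _ (Submodule.subset_span ⟨l, rfl⟩)
  obtain ⟨I, w, k, q, hk, hI⟩ := GradedHilbert.exists_exact_form ℳ g e hg hspan'
  exact ⟨_, I, w, k, q, hk, fun i => by rw [Gr.h, piece_ofDecomp]; exact hI i⟩

theorem h_ne_top [Module.Finite A M] (i : ℕ) : (ofDecomp (𝒜 := 𝒜) ℳ).h i ≠ ⊤ := by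
  obtain ⟨ι, I, w, k, q, -, hI⟩ := exists_form (𝒜 := 𝒜) ℳ y hy hgen
  rw [hI]
  exact ENat.natCast_ne_top _

theorem g_ne_top [Module.Finite A M] (i : ℕ) : (ofDecomp (𝒜 := 𝒜) ℳ).g i ≠ ⊤ := by
  rw [Gr.g_eq_sum]
  exact WithTop.sum_ne_top.2 fun j _ => h_ne_top ℳ y hy hgen j

/-- The series is `Q / (1 - X)^e` with `Q(1) > 0` and `e` the dimension. -/
theorem exists_series [IsNoetherianRing A] [Module.Finite A M] [Nontrivial M] :
    ∃ (Q : Polynomial ℤ) (e : ℕ), (ofDecomp (𝒜 := 𝒜) ℳ).series * (1 - PowerSeries.X) ^ e = (Q : PowerSeries ℤ) ∧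
      0 < Q.eval 1 ∧ Module.supportDim A M = e := by
  classical
  obtain ⟨ι, I, w, k, q, -, hI⟩ := exists_form (𝒜 := 𝒜) ℳ y hy hgen
  set G := ofDecomp (𝒜 := 𝒜) ℳ
  set J := I.filter fun b => w b ≠ 0
  have hJne : J.Nonempty := by
    by_contra hne
    obtain ⟨m, hm⟩ := exists_ne (0 : M)
    obtain ⟨N, hN⟩ := G.bdd m
    refine hm ((hN N le_rfl).trans (Finset.sum_eq_zero fun j _ => ?_))
    have h0 : G.h j = 0 := by
      rw [hI, Finset.sum_eq_zero fun b hb => ?_, Nat.cast_zero]
      have : w b = 0 := by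
        by_contra hw
        exact hne ⟨b, Finset.mem_filter.2 ⟨hb, hw⟩⟩
      simp [this]
    have := Module.length_eq_zero_iff.1 h0
    exact congrArg Subtype.val (Subsingleton.elim (⟨G.p j m, G.p_mem_piece j m⟩ : G.piece j) 0)
  set e := J.sup k with he
  have hle : ∀ b ∈ J, k b ≤ e := fun b hb => Finset.le_sup (f := k) hb
  have hh : ∀ i, (G.h i).toNat =
      ∑ b ∈ J, if q b ≤ i then w b * (k b).multichoose (i - q b) else 0 := fun i => by
    rw [hI, ENat.toNat_natCast]
    refine (Finset.sum_subset (Finset.filter_subset _ _) fun b hb hbJ => ?_).symm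
    have : w b = 0 := by simpa [J, hb] using hbJ
    simp [this]
  have hgsum : ∀ T, (G.g T).toNat = ∑ j ∈ Finset.range T, (G.h j).toNat := fun T => by
    rw [G.g_eq_sum, Finset.sum_congr rfl fun j _ => (ENat.natCast_toNat (h_ne_top ℳ y hy hgen j)).symm,
      ← Nat.cast_sum, ENat.toNat_natCast]
  refine ⟨∑ b ∈ J, Polynomial.C (w b : ℤ) * Polynomial.X ^ q b * (1 - Polynomial.X) ^ (e - k b), e,
    ?_, ?_, le_antisymm ?_ ?_⟩
  · have hone : ∀ d : ℕ, PowerSeries.mk (fun i => (d.multichoose i : ℤ)) * (1 - PowerSeries.X) ^ d = 1 := by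
      intro d
      rw [← PowerSeries.invOneSubPow_inv_eq_one_sub_pow]
      rcases d with _ | d
      · rw [PowerSeries.invOneSubPow_inv_zero_eq_one, mul_one]
        ext i
        rcases i with _ | i <;> simp [Nat.multichoose_zero_succ]
      · convert (PowerSeries.invOneSubPow ℤ (d + 1)).val_inv using 2
        rw [PowerSeries.invOneSubPow_val_succ_eq_mk_add_choose]
        ext i
        simp only [PowerSeries.coeff_mk, Nat.multichoose_eq]
        rw [show d + 1 + i - 1 = d + i by omega, Nat.choose_symm_add]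
    have hser : G.series = ∑ b ∈ J, PowerSeries.C (w b : ℤ) *
        (PowerSeries.X ^ q b * PowerSeries.mk (fun i => ((k b).multichoose i : ℤ))) := by
      ext i
      rw [Gr.series, PowerSeries.coeff_mk, hh, map_sum, Nat.cast_sum]
      refine Finset.sum_congr rfl fun b _ => ?_
      rw [PowerSeries.coeff_C_mul, PowerSeries.coeff_X_pow_mul']
      split_ifs <;> simp
    rw [hser, Finset.sum_mul, ← Polynomial.coeToPowerSeries.ringHom_apply, map_sum]
    refine Finset.sum_congr rfl fun b hb => ?_
    simp only [map_mul, map_pow, map_sub, map_one, Polynomial.coeToPowerSeries.ringHom_apply,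
      Polynomial.coe_C, Polynomial.coe_X]
    conv_lhs => rw [← Nat.add_sub_cancel' (hle b hb), pow_add]
    linear_combination (PowerSeries.C (w b : ℤ) * PowerSeries.X ^ q b *
      (1 - PowerSeries.X) ^ (e - k b)) * hone (k b)
  · rw [Polynomial.eval_finsetSum]
    obtain ⟨b₀, hb₀, hb₀e⟩ := J.exists_mem_eq_sup hJne k
    refine Finset.sum_pos' (fun b hb => ?_) ⟨b₀, hb₀, ?_⟩
    · rcases Nat.eq_zero_or_pos (e - k b) with h | h
      · simp [h]
      · simp [zero_pow h.ne']
    · rw [show e - k b₀ = 0 by omega]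
      simpa [Nat.pos_iff_ne_zero] using (Finset.mem_filter.1 hb₀).2
  · obtain ⟨N, g, dg, hg, hspan⟩ := exists_gens (𝒜 := 𝒜) ℳ y hy hgen
    refine GrDim.supportDim_le_of_growth A₀ y hgen e M (Finset.univ.image g)
      (by rwa [Finset.coe_image, Finset.coe_univ, Set.image_univ]) ?_
    set D := ∑ l, dg l + 1 with hD
    refine ⟨(∑ b ∈ J, w b) * (D + e + 1) ^ e, fun t => ?_⟩
    have hF : Module.length A₀ (GrDim.F A₀ y (Finset.univ.image g) t) ≤ G.g (t + D) := by
      refine Module.length_le_of_injective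
        (((G.ge (t + D)).mkQ.restrictScalars A₀) ∘ₗ (GrDim.F A₀ y (Finset.univ.image g) t).subtype) ?_
      rw [← LinearMap.ker_eq_bot, LinearMap.ker_eq_bot']
      intro z hz
      have hz' : (z : M) ∈ G.ge (t + D) := (Submodule.Quotient.mk_eq_zero _).1 hz
      have htau : ∀ x ∈ GrDim.F A₀ y (Finset.univ.image g) t, G.tau (t + D) x = x := by
        intro x hx
        let S : Submodule A₀ M :=
          { carrier := {x | G.tau (t + D) x = x}
            add_mem' := fun ha hb => by simp only [Set.mem_setOf_eq] at *; rw [map_add, ha, hb]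
            zero_mem' := map_zero _
            smul_mem' := fun c x hx => by
              simp only [Set.mem_setOf_eq, Gr.tau, AddMonoidHom.finsetSum_apply] at *
              simp only [Gr.p_smul, ← Finset.smul_sum, hx] }
        refine (iSup₂_le (a := S) fun z hz' => ?_) hx
        obtain ⟨l, -, rfl⟩ := Finset.mem_image.1 hz'
        rw [Submodule.map_le_iff_le_comap, GrDim.W, Submodule.span_le]
        rintro _ ⟨α, hα, rfl⟩
        show G.tau (t + D) (mon y α • g l) = mon y α • g l
        have hmem : mon y α • g l ∈ ℳ (deg α + dg l) :=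
          Graded.smul_mem_add 𝒜 ℳ (mon_mem_grade y hy α) (hg l)
        have hlt : deg α + dg l < t + D := by
          have : dg l ≤ ∑ l, dg l := Finset.single_le_sum (fun _ _ => Nat.zero_le _) (Finset.mem_univ l)
          simp only [Set.mem_setOf_eq] at hα
          omega
        rw [Gr.tau, AddMonoidHom.finsetSum_apply, Finset.sum_eq_single (deg α + dg l)]
        · exact Graded.proj_of_mem_same ℳ hmem
        · exact fun j _ hj => Graded.proj_of_mem_ne ℳ hmem (Ne.symm hj)
        · exact fun h => absurd (Finset.mem_range.2 hlt) h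
      refine Subtype.ext ?_
      show (z : M) = 0
      rw [← htau z z.2, Gr.tau, AddMonoidHom.finsetSum_apply]
      exact Finset.sum_eq_zero fun j hj => hz' j (Finset.mem_range.1 hj)
    refine (ENat.toNat_le_toNat hF (g_ne_top ℳ y hy hgen _)).trans ?_
    rw [hgsum]
    simp only [hh]
    rw [Finset.sum_comm, Finset.sum_mul, Finset.sum_mul]
    refine Finset.sum_le_sum fun b hb => ?_
    rw [mul_assoc, ← mul_pow]
    calc (∑ j ∈ Finset.range (t + D), if q b ≤ j then w b * (k b).multichoose (j - q b) else 0)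
        ≤ w b * ∑ s ∈ Finset.range (t + D + 1), (k b).multichoose s := by
          rw [Finset.mul_sum, ← Finset.sum_filter]
          refine le_of_eq_of_le (Finset.sum_image (f := fun s => w b * (k b).multichoose s)
            (g := fun j => j - q b) ?_).symm (Finset.sum_le_sum_of_subset ?_)
          · intro a ha c hc hac
            simp only [Finset.coe_filter, Set.mem_setOf_eq] at ha hc
            simp only at hac
            omega
          · intro s hs
            simp only [Finset.mem_image, Finset.mem_filter, Finset.mem_range] at hs ⊢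
            omega
      _ ≤ _ := by
          rw [Nat.sum_range_multichoose]
          refine Nat.mul_le_mul_left _ ((Nat.choose_le_choose (k b) (show t + D + k b ≤ t + D + e by
            have := hle b hb; omega)).trans ?_)
          refine (Nat.choose_le_pow _ _).trans ?_
          refine (Nat.pow_le_pow_left (show t + D + e ≤ (D + e + 1) * (t + 1) by nlinarith) _).trans
            (Nat.pow_le_pow_right (Nat.mul_pos (Nat.succ_pos _) (Nat.succ_pos _)) (hle b hb))
  · have hnb : (⊥ : WithBot ℕ∞) < Module.supportDim A M :=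
      bot_lt_iff_ne_bot.2 (Module.supportDim_ne_bot_of_nontrivial A M)
    obtain ⟨b₀, hb₀, hb₀e⟩ := J.exists_mem_eq_sup hJne k
    by_contra hlt
    rw [not_le] at hlt
    obtain ⟨n, hn, hne⟩ : ∃ n : ℕ, Module.supportDim A M ≤ n ∧ n < e := by
      induction hd : Module.supportDim A M using WithBot.recBotCoe with
      | bot => rw [hd] at hnb; exact absurd hnb (lt_irrefl _)
      | coe d =>
        rw [hd] at hlt
        induction d using ENat.recTopCoe with
        | top => exact absurd (WithBot.coe_lt_coe.1 hlt) (not_lt.2 le_top)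
        | coe d => exact ⟨d, le_rfl, by exact_mod_cast hlt⟩
    have hHyp : Groth.Agent.Lib.HilbertSamuel.Basic.Hyp (Ideal.span (Set.range y)) M := fun p _ hIp => by
      haveI : IsArtinianRing (A ⧸ p.asIdeal) :=
        (Function.Surjective.isArtinianRing (surjective_quot hgen hIp))
      haveI := p.2
      exact Ideal.Quotient.maximal_of_isField _ (IsArtinianRing.isField_of_isDomain _)
    obtain ⟨C, hC⟩ := GrDim.growth_of_supportDim_le (I := Ideal.span (Set.range y)) n M hHyp hn
    have hlow : ∀ T, (G.g T).toNat ≤ C * (T + 1) ^ n := fun T => by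
      refine le_trans (ENat.toNat_le_toNat ?_ ?_) (hC T)
      · rw [g_eq_length G y hy hgen]
        exact Module.length_le_of_surjective _ (Submodule.factor_surjective (pow_smul_le_ge y hy T))
      · exact (Groth.Agent.Lib.HilbertSamuel.Basic.length_lt_top hHyp (le_refl _)).ne
    set c := e.factorial * C * (q b₀ + 2) ^ n with hc
    have h2 : ∀ s, e.factorial * ((s + e).choose e) ≤ c * (s + 1) ^ n := fun s => by
      have h3 : (s + e).choose e ≤ C * (q b₀ + (s + 1) + 1) ^ n := by
        refine le_trans ?_ (hlow (q b₀ + (s + 1)))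
        rw [hgsum, ← Nat.sum_range_multichoose, Finset.sum_range_add _ (q b₀) (s + 1)]
        refine le_trans ?_ (Nat.le_add_left _ _)
        refine Finset.sum_le_sum fun j _ => ?_
        rw [hh]
        refine le_trans ?_ (Finset.single_le_sum (fun _ _ => Nat.zero_le _) hb₀)
        rw [if_pos (Nat.le_add_right _ _), Nat.add_sub_cancel_left, he, hb₀e]
        exact Nat.le_mul_of_pos_left _ (Nat.pos_of_ne_zero (Finset.mem_filter.1 hb₀).2)
      calc e.factorial * (s + e).choose e ≤ e.factorial * (C * (q b₀ + (s + 1) + 1) ^ n) :=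
            Nat.mul_le_mul_left _ h3
        _ ≤ e.factorial * (C * ((q b₀ + 2) * (s + 1)) ^ n) := by
            gcongr
            nlinarith
        _ = _ := by rw [hc, mul_pow]; ring
    have h4 := (Nat.pow_succ_le_ascFactorial (c + 1) e).trans_eq
      (Nat.ascFactorial_eq_factorial_mul_choose c e)
    have h5 := h4.trans (h2 c)
    have h6 : (c + 1) ^ (n + 1) ≤ c * (c + 1) ^ n :=
      (Nat.pow_le_pow_right (Nat.succ_pos c) hne).trans h5
    rw [pow_succ'] at h6
    exact absurd (Nat.le_of_mul_le_mul_right h6 (by positivity)) (by omega)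

end Groth.Agent.Lib.Lech.GrSeries
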