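import Groth.Agent.Lib.Lech.Mono
import Mathlib.Analysis.SpecificLimits.Basic
import Mathlib.Topology.Algebra.Order.Field
import Mathlib.Algebra.BigOperators.Field

/-!
# Asymptotics of the monomial filtration: Samuel multiplicity and Lech's limit
-/

universe u v

open Filter Topology

namespace Groth.Agent.Lib.Lech

variable {r : ℕ}

theorem tendsto_shift (a : ℕ) :
    Tendsto (fun t : ℕ => (((t + a : ℕ) : ℝ) / (t : ℝ)) ^ r) atTop (𝓝 1) := by
  have h : Tendsto (fun t : ℕ => 1 + (a : ℝ) / (t : ℝ)) atTop (𝓝 1) := by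
    simpa using tendsto_const_nhds.add (tendsto_const_div_atTop_nhds_zero_nat (a : ℝ))
  simpa using (h.congr' (by
    filter_upwards [eventually_ne_atTop 0] with t ht
    have : (t : ℝ) ≠ 0 := Nat.cast_ne_zero.2 ht
    push_cast; field_simp)).pow r

theorem tendsto_card_degLt :
    Tendsto (fun t : ℕ => ((degLt r t).card : ℝ) / (t : ℝ) ^ r) atTop
      (𝓝 (1 / (r.factorial : ℝ))) := by
  have hr : (0 : ℝ) < r.factorial := Nat.cast_pos.2 r.factorial_pos
  refine tendsto_of_tendsto_of_tendsto_of_le_of_le' tendsto_const_nhds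
    ((tendsto_shift (r := r) r).div_const (r.factorial : ℝ)) ?_ ?_
  · filter_upwards [eventually_ne_atTop 0] with t ht
    obtain ⟨s, rfl⟩ := Nat.exists_eq_succ_of_ne_zero ht
    have h : ((s.succ : ℕ) : ℝ) ^ r ≤ (r.factorial : ℝ) * ((degLt r s.succ).card : ℝ) := by
      exact_mod_cast (card_degLt_bounds (r := r) s).1
    rw [div_le_div_iff₀ hr (pow_pos (by positivity) r)]
    linarith
  · filter_upwards [eventually_ne_atTop 0] with t ht
    obtain ⟨s, rfl⟩ := Nat.exists_eq_succ_of_ne_zero ht
    have h : (r.factorial : ℝ) * ((degLt r s.succ).card : ℝ) ≤ ((s.succ + r : ℕ) : ℝ) ^ r := by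
      have := (card_degLt_bounds (r := r) s).2.trans
        (Nat.pow_le_pow_left (Nat.add_le_add_right (Nat.le_succ s) r) r)
      exact_mod_cast this
    rw [div_pow, div_div, div_le_div_iff₀ (pow_pos (by positivity) r)
      (mul_pos (pow_pos (by positivity) r) hr)]
    have hp : (0 : ℝ) ≤ ((s.succ : ℕ) : ℝ) ^ r := by positivity
    nlinarith [mul_le_mul_of_nonneg_right h hp]

/-- the exponents in the box `[0, n)^r` -/
def box (r n : ℕ) : Finset (Fin r → ℕ) := Fintype.piFinset fun _ => Finset.range n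

theorem card_box (n : ℕ) : (box r n).card = n ^ r := by simp [box]

theorem mem_box {n : ℕ} {α : Fin r → ℕ} : α ∈ box r n ↔ ∀ i, α i < n := by simp [box]

theorem degLt_subset_box (t : ℕ) : degLt r t ⊆ box r t := fun α hα => mem_box.2 fun i =>
  (Finset.single_le_sum (fun j _ => Nat.zero_le (α j)) (Finset.mem_univ i)).trans_lt
    (mem_degLt.1 hα)

theorem card_slab (γ : Fin r → ℕ) (i : Fin r) (n : ℕ) :
    ((box r n).filter fun α => α i < γ i).card ≤ γ i * n ^ (r - 1) := by
  calc _ ≤ (Fintype.piFinset fun j => Finset.range (if j = i then γ i else n)).card :=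
        Finset.card_le_card fun α hα => by
          simp only [Finset.mem_filter, mem_box] at hα
          simp only [Fintype.mem_piFinset, Finset.mem_range]
          intro j
          split_ifs with h
          · subst h; exact hα.2
          · exact hα.1 j
    _ = _ := by
      rw [Fintype.card_piFinset, Fintype.prod_eq_mul_prod_compl i, Finset.card_range, if_pos rfl,
        Finset.prod_congr rfl (g := fun _ => n) fun j hj => by
          rw [Finset.card_range, if_neg (by simpa using hj)],
        Finset.prod_const, Finset.card_compl, Fintype.card_fin, Finset.card_singleton]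

theorem tendsto_slab (γ : Fin r → ℕ) :
    Tendsto (fun n : ℕ => ∑ i : Fin r, (γ i : ℝ) * ((n : ℝ) ^ (r - 1) / (n : ℝ) ^ r)) atTop
      (𝓝 0) := by
  have h0 : ∀ i : Fin r, Tendsto (fun n : ℕ => (γ i : ℝ) * ((n : ℝ) ^ (r - 1) / (n : ℝ) ^ r))
      atTop (𝓝 0) := fun i => by
    have := (tendsto_const_div_atTop_nhds_zero_nat (γ i : ℝ))
    refine this.congr' ?_
    filter_upwards [eventually_ne_atTop 0] with n hn
    obtain ⟨k, hk⟩ : ∃ k, r = k + 1 := ⟨r - 1, by have := i.isLt; omega⟩
    have : (n : ℝ) ≠ 0 := Nat.cast_ne_zero.2 hn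
    rw [hk, Nat.add_sub_cancel, pow_succ]
    field_simp
  simpa using tendsto_finsetSum Finset.univ fun i _ => h0 i

/-- A function on exponents that decreases along the pointwise order has averages tending to its
minimum over the simplices and the boxes. -/
theorem exists_min (c : (Fin r → ℕ) → ℕ) (hc : ∀ α e, c (α + e) ≤ c α) :
    ∃ cm : ℕ, (∀ α, cm ≤ c α) ∧
      Tendsto (fun n : ℕ => ((∑ α ∈ degLt r n, c α : ℕ) : ℝ) / (n : ℝ) ^ r) atTop
        (𝓝 ((cm : ℝ) / r.factorial)) ∧
      Tendsto (fun n : ℕ => ((∑ α ∈ box r n, c α : ℕ) : ℝ) / (n : ℝ) ^ r) atTop (𝓝 (cm : ℝ)) := by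
  have hmin : ∃ γ, ∀ α, c γ ≤ c α :=
    ⟨Function.argmin c, fun α => Function.argmin_le c α⟩
  obtain ⟨γ, hγ⟩ := hmin
  have hbound : ∀ (n : ℕ) (S : Finset (Fin r → ℕ)), S ⊆ box r n →
      (∑ α ∈ S, c α) ≤ c γ * S.card + c 0 * ∑ i, γ i * n ^ (r - 1) := by
    intro n S hS
    calc (∑ α ∈ S, c α) ≤ ∑ α ∈ S, (c γ + if ∃ i, α i < γ i then c 0 else 0) :=
          Finset.sum_le_sum fun α _ => by
            split_ifs with h
            · exact le_add_left (by simpa using hc 0 α)
            · push Not at h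
              rw [add_zero]
              obtain ⟨e, rfl⟩ : ∃ e, α = γ + e := ⟨α - γ, funext fun i => by
                simp only [Pi.add_apply, Pi.sub_apply]; have := h i; omega⟩
              exact hc γ e
      _ = c γ * S.card + c 0 * (S.filter fun α => ∃ i, α i < γ i).card := by
          rw [Finset.sum_add_distrib, Finset.sum_const, smul_eq_mul, mul_comm, ← Finset.sum_filter,
            Finset.sum_const, smul_eq_mul, mul_comm (Finset.card _) (c 0)]
      _ ≤ _ := by
          gcongr
          refine le_trans (Finset.card_le_card ?_)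
            (Finset.card_biUnion_le.trans (Finset.sum_le_sum fun i _ => card_slab γ i n))
          intro α hα
          obtain ⟨hαS, i, hi⟩ := Finset.mem_filter.1 hα
          exact Finset.mem_biUnion.2 ⟨i, Finset.mem_univ _, Finset.mem_filter.2 ⟨hS hαS, hi⟩⟩
  have main : ∀ (S : ℕ → Finset (Fin r → ℕ)) (L : ℝ), (∀ n, S n ⊆ box r n) →
      Tendsto (fun n : ℕ => ((S n).card : ℝ) / (n : ℝ) ^ r) atTop (𝓝 L) →
      Tendsto (fun n : ℕ => ((∑ α ∈ S n, c α : ℕ) : ℝ) / (n : ℝ) ^ r) atTop
        (𝓝 ((c γ : ℝ) * L)) := by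
    intro S L hS hL
    refine tendsto_of_tendsto_of_tendsto_of_le_of_le (hL.const_mul (c γ : ℝ))
      (h := fun n : ℕ => (c γ : ℝ) * (((S n).card : ℝ) / (n : ℝ) ^ r) +
        (c 0 : ℝ) * ∑ i : Fin r, (γ i : ℝ) * ((n : ℝ) ^ (r - 1) / (n : ℝ) ^ r)) ?_ ?_ ?_
    · simpa using (hL.const_mul (c γ : ℝ)).add ((tendsto_slab γ).const_mul (c 0 : ℝ))
    · intro n
      show (c γ : ℝ) * (((S n).card : ℝ) / (n : ℝ) ^ r) ≤ _
      rw [← mul_div_assoc]
      refine div_le_div_of_nonneg_right ?_ (by positivity)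
      have h := Finset.card_nsmul_le_sum (S n) c (c γ) fun α _ => hγ α
      rw [smul_eq_mul, mul_comm] at h
      exact_mod_cast h
    · intro n
      have h : ((∑ α ∈ S n, c α : ℕ) : ℝ) ≤
          (c γ : ℝ) * (S n).card + (c 0 : ℝ) * ∑ i, (γ i : ℝ) * (n : ℝ) ^ (r - 1) := by
        exact_mod_cast hbound n (S n) (hS n)
      refine (div_le_div_of_nonneg_right h (by positivity)).trans (le_of_eq ?_)
      simp only [add_div, mul_div_assoc, Finset.sum_div]
  refine ⟨c γ, hγ, ?_, ?_⟩
  · rw [div_eq_mul_one_div]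
    exact main (degLt r) _ degLt_subset_box tendsto_card_degLt
  · have h := main (box r) 1 (fun n => subset_rfl) (tendsto_const_nhds.congr' (by
      filter_upwards [eventually_ne_atTop 0] with n hn
      rw [card_box, Nat.cast_pow, div_self (pow_ne_zero _ (Nat.cast_ne_zero.2 hn))]))
    rwa [mul_one] at h

variable {A : Type u} [CommRing A] {M : Type v} [AddCommGroup M] [Module A M] (x : Fin r → A)

/-- Lech's limit formula. -/
theorem lech (hfl : Module.length A (M ⧸ Ideal.span (Set.range x) • (⊤ : Submodule A M)) ≠ ⊤) :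
    ∃ cm : ℕ,
      Tendsto (fun n : ℕ => ((Module.length A (M ⧸ (Ideal.span (Set.range x) ^ n •
          (⊤ : Submodule A M)))).toNat : ℝ) / (n : ℝ) ^ r) atTop (𝓝 ((cm : ℝ) / r.factorial)) ∧
      Tendsto (fun n : ℕ => ((Module.length A (M ⧸ (Ideal.span (Set.range fun i => x i ^ n) •
          (⊤ : Submodule A M)))).toNat : ℝ) / (n : ℝ) ^ r) atTop (𝓝 (cm : ℝ)) := by
  set c : (Fin r → ℕ) → ℕ :=
    fun α => (Module.length A (M ⧸ J x (⊥ : Submodule A M) α)).toNat with hcdef
  have hcast : ∀ α, (c α : ℕ∞) = Module.length A (M ⧸ J x (⊥ : Submodule A M) α) := fun α =>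
    ENat.natCast_toNat (ne_top_of_le_ne_top hfl (length_quotient_J_le x (⊥ : Submodule A M) α))
  have hmono : ∀ α e, c (α + e) ≤ c α := fun α e => by
    have := Module.length_le_of_surjective _ (Submodule.factor_surjective (J_le_add x (⊥ : Submodule A M) α e))
    rw [← hcast, ← hcast] at this
    exact_mod_cast this
  obtain ⟨cm, hmin, hsimp, hbox⟩ := exists_min c hmono
  refine ⟨cm, ?_, ?_⟩
  · refine hsimp.congr fun n => ?_
    rw [length_pow_smul, ← Finset.sum_congr rfl fun α _ => hcast α, ← Nat.cast_sum,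
      ENat.toNat_natCast]
  have hup : ∀ n, Module.length A (M ⧸ (Ideal.span (Set.range fun i => x i ^ n) •
      (⊤ : Submodule A M))) ≤ ((∑ α ∈ box r n, c α : ℕ) : ℕ∞) := fun n => by
    rw [Nat.cast_sum, Finset.sum_congr rfl fun α _ => hcast α]
    exact length_powers_le x n
  refine tendsto_of_tendsto_of_tendsto_of_le_of_le' tendsto_const_nhds hbox ?_
    (Eventually.of_forall fun n => ?_)
  · filter_upwards [eventually_ne_atTop 0] with n hn
    obtain ⟨L, hL⟩ := ENat.ne_top_iff_exists.1 (ne_top_of_le_ne_top (ENat.natCast_ne_top _) (hup n))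
    rw [← hL, ENat.toNat_natCast, le_div_iff₀ (by positivity)]
    have key : ∀ s : ℕ, s ≠ 0 →
        ((cm : ℝ) * (n : ℝ) ^ r) * (s : ℝ) ^ r ≤ (L : ℝ) * ((s + r : ℕ) : ℝ) ^ r := by
      intro s hs
      have hle : Ideal.span (Set.range fun i => x i ^ n) ^ s ≤
          Ideal.span (Set.range x) ^ (n * s) := by
        rw [pow_mul]
        refine Ideal.pow_right_mono (Ideal.span_le.2 ?_) s
        rintro _ ⟨i, rfl⟩
        exact Ideal.pow_mem_pow (Ideal.subset_span (Set.mem_range_self i)) n
      have h := (Module.length_le_of_surjective _ (Submodule.factor_surjective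
        (Submodule.smul_mono hle (le_refl (⊤ : Submodule A M))))).trans
        (length_pow_smul_le (fun i => x i ^ n) s)
      rw [length_pow_smul, ← Finset.sum_congr rfl fun α _ => hcast α, ← Nat.cast_sum, ← hL,
        nsmul_eq_mul, ← Nat.cast_mul, Nat.cast_le] at h
      have h2 : cm * (degLt r (n * s)).card ≤ (degLt r s).card * L := by
        refine le_trans ?_ h
        have := Finset.card_nsmul_le_sum (degLt r (n * s)) c cm fun α _ => hmin α
        rwa [smul_eq_mul, mul_comm] at this
      obtain ⟨s', rfl⟩ := Nat.exists_eq_succ_of_ne_zero hs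
      obtain ⟨m', hm'⟩ := Nat.exists_eq_succ_of_ne_zero (Nat.mul_ne_zero hn hs)
      rw [hm'] at h2
      have h3 : cm * (n * (s' + 1)) ^ r ≤ L * (s' + 1 + r) ^ r := by
        rw [show n * (s' + 1) = m' + 1 from hm']
        calc cm * (m' + 1) ^ r ≤ cm * (r.factorial * (degLt r (m' + 1)).card) :=
              Nat.mul_le_mul_left _ (card_degLt_bounds m').1
          _ = r.factorial * (cm * (degLt r (m' + 1)).card) := by ring
          _ ≤ r.factorial * ((degLt r (s' + 1)).card * L) := Nat.mul_le_mul_left _ h2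
          _ = L * (r.factorial * (degLt r (s' + 1)).card) := by ring
          _ ≤ L * (s' + r) ^ r := Nat.mul_le_mul_left _ (card_degLt_bounds s').2
          _ ≤ _ := Nat.mul_le_mul_left _ (Nat.pow_le_pow_left (by omega) r)
      rw [mul_assoc, ← mul_pow]
      exact_mod_cast h3
    refine ge_of_tendsto (f := fun s : ℕ => (L : ℝ) * (((s + r : ℕ) : ℝ) / s) ^ r)
      (x := atTop) (by simpa using (tendsto_shift (r := r) r).const_mul (L : ℝ)) ?_
    filter_upwards [eventually_ne_atTop 0] with s hs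
    rw [div_pow, ← mul_div_assoc, le_div_iff₀ (pow_pos (Nat.cast_pos.2 (Nat.pos_of_ne_zero hs)) r)]
    exact key s hs
  · exact div_le_div_of_nonneg_right
      (Nat.cast_le.2 (ENat.toNat_le_toNat (hup n) (ENat.natCast_ne_top _))) (by positivity)

end Groth.Agent.Lib.Lech
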