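import Mathlib.Algebra.Order.Chebyshev
import Mathlib.Data.Real.Basic
import Mathlib.Data.Nat.Factorial.Basic
import Mathlib.Algebra.BigOperators.Field
import Mathlib.Tactic

/-!
# Discrete Beta sums
-/

namespace Groth.Agent.Lib.Lech

open Finset

/-- first order Taylor bound -/
theorem taylor_one (m : ℕ) (u h B : ℝ) (hB : 1 ≤ B) (hu : |u| ≤ B) (hh : |h| ≤ 1) :
    |(u + h) ^ m - u ^ m - (m : ℝ) * h * u ^ (m - 1)| * B ^ 2 ≤ 4 ^ m * B ^ m := by
  induction m with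
  | zero => simp
  | succ m ih =>
    have key : (u + h) ^ (m + 1) - u ^ (m + 1) - ((m + 1 : ℕ) : ℝ) * h * u ^ (m + 1 - 1) =
        (u + h) * ((u + h) ^ m - u ^ m - (m : ℝ) * h * u ^ (m - 1)) +
          (m : ℝ) * h ^ 2 * u ^ (m - 1) := by
      rcases m with _ | m
      · simp
      · simp only [Nat.add_sub_cancel]; push_cast; ring
    rw [key]
    have h1 : |u + h| ≤ 2 * B := (abs_add_le u h).trans (by linarith)
    have h2 : |(m : ℝ) * h ^ 2 * u ^ (m - 1)| * B ^ 2 ≤ (m : ℝ) * B ^ (m + 1) := by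
      rw [abs_mul, abs_mul, abs_pow, abs_pow, Nat.abs_cast]
      rcases m with _ | m
      · simp
      · rw [Nat.add_sub_cancel]
        calc ((m + 1 : ℕ) : ℝ) * |h| ^ 2 * |u| ^ m * B ^ 2
            ≤ ((m + 1 : ℕ) : ℝ) * 1 ^ 2 * B ^ m * B ^ 2 := by gcongr
          _ = _ := by ring
    have h3 : (m : ℝ) ≤ 4 ^ m := by
      exact_mod_cast (Nat.lt_pow_self (by norm_num : 1 < 4)).le
    calc |_ + _| * B ^ 2 ≤ (|u + h| * |(u + h) ^ m - u ^ m - (m : ℝ) * h * u ^ (m - 1)|) * B ^ 2 +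
          |(m : ℝ) * h ^ 2 * u ^ (m - 1)| * B ^ 2 := by
          rw [← add_mul, ← abs_mul]
          exact mul_le_mul_of_nonneg_right (abs_add_le _ _) (by positivity)
      _ ≤ 2 * B * (4 ^ m * B ^ m) + 4 ^ m * B ^ (m + 1) := by
          refine add_le_add ?_ (h2.trans (by gcongr))
          rw [mul_assoc]
          exact mul_le_mul h1 ih (by positivity) (by linarith)
      _ ≤ _ := by
          have hp : (0 : ℝ) ≤ 4 ^ m * B ^ (m + 1) := by positivity
          rw [pow_succ B m, pow_succ (4 : ℝ) m]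
          rw [pow_succ B m] at hp
          nlinarith

theorem diff_bound (m : ℕ) (u h B : ℝ) (hB : 1 ≤ B) (hu : |u| ≤ B) (hh : |h| ≤ 1) :
    |(u + h) ^ m - u ^ m| * B ≤ (4 ^ m + m) * B ^ m := by
  have t := taylor_one m u h B hB hu hh
  have h2 : |(m : ℝ) * h * u ^ (m - 1)| * B ≤ (m : ℝ) * B ^ m := by
    rw [abs_mul, abs_mul, abs_pow, Nat.abs_cast]
    rcases m with _ | m
    · simp
    · rw [Nat.add_sub_cancel]
      calc ((m + 1 : ℕ) : ℝ) * |h| * |u| ^ m * B ≤ ((m + 1 : ℕ) : ℝ) * 1 * B ^ m * B := by gcongr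
        _ = _ := by ring
  have h3 : |(u + h) ^ m - u ^ m - (m : ℝ) * h * u ^ (m - 1)| * B ≤ 4 ^ m * B ^ m := by
    refine le_trans (mul_le_mul_of_nonneg_left ?_ (abs_nonneg _)) t
    nlinarith
  calc |(u + h) ^ m - u ^ m| * B
      = |((u + h) ^ m - u ^ m - (m : ℝ) * h * u ^ (m - 1)) + (m : ℝ) * h * u ^ (m - 1)| * B := by
        rw [sub_add_cancel]
    _ ≤ _ := (mul_le_mul_of_nonneg_right (abs_add_le _ _) (by linarith)).trans (by
        rw [add_mul, add_mul]; exact add_le_add h3 h2)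

/-- the sum -/
noncomputable def S (a j n : ℕ) : ℝ := ∑ i ∈ range n, ((n : ℝ) - i) ^ a * (i : ℝ) ^ j

/-- summation by parts -/
theorem parts (a j : ℕ) : ∃ C : ℝ, ∀ n : ℕ, 1 ≤ n →
    |((j + 1 : ℕ) : ℝ) * S a j n - (a : ℝ) * S (a - 1) (j + 1) n -
      (if a = 0 then (n : ℝ) ^ (j + 1) else 0)| ≤ C * (n : ℝ) ^ (a + j) := by
  refine ⟨4 ^ a + 4 ^ (j + 1) + (4 ^ a + a) * (4 ^ (j + 1) + (j + 1 : ℕ)), fun n hn => ?_⟩
  set K : ℝ := 4 ^ a + 4 ^ (j + 1) + (4 ^ a + a) * (4 ^ (j + 1) + (j + 1 : ℕ))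
  have hn1 : (1 : ℝ) ≤ n := Nat.one_le_cast.2 hn
  set g : ℕ → ℝ := fun i => ((n : ℝ) - i) ^ a * (i : ℝ) ^ (j + 1) with hg
  have htel := Finset.sum_range_sub g n
  have hend : g n - g 0 = if a = 0 then (n : ℝ) ^ (j + 1) else 0 := by
    simp only [hg]
    split_ifs with h
    · simp [h]
    · simp [zero_pow h]
  rw [hend] at htel
  rw [← htel, S, S, Finset.mul_sum, Finset.mul_sum, ← Finset.sum_sub_distrib,
    ← Finset.sum_sub_distrib]
  refine (Finset.abs_sum_le_sum_abs _ _).trans ?_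
  refine (Finset.sum_le_card_nsmul (range n) _ (K * (n : ℝ) ^ (a + j) / n) fun i hi => ?_).trans ?_
  swap
  · rw [card_range, nsmul_eq_mul, mul_div_cancel₀ _ (by positivity)]
  rw [Finset.mem_range] at hi
  have hi' : (i : ℝ) ≤ n := Nat.cast_le.2 hi.le
  have hu : |(n : ℝ) - i| ≤ n := by rw [abs_of_nonneg (by linarith)]; linarith [(Nat.cast_nonneg i : (0 : ℝ) ≤ i)]
  have hv : |(i : ℝ)| ≤ n := by rwa [Nat.abs_cast]
  set u : ℝ := (n : ℝ) - i
  set v : ℝ := (i : ℝ)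
  have e1 : g (i + 1) - g i = ((u + -1) ^ a - u ^ a) * v ^ (j + 1) +
      u ^ a * ((v + 1) ^ (j + 1) - v ^ (j + 1)) +
      ((u + -1) ^ a - u ^ a) * ((v + 1) ^ (j + 1) - v ^ (j + 1)) := by
    simp only [hg, u, v, Nat.cast_add, Nat.cast_one]; ring
  rw [e1]
  have tu := taylor_one a u (-1) n hn1 hu (by norm_num)
  have tv := taylor_one (j + 1) v 1 n hn1 hv (by norm_num)
  have du := diff_bound a u (-1) n hn1 hu (by norm_num)
  have dv := diff_bound (j + 1) v 1 n hn1 hv (by norm_num)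
  rw [Nat.add_sub_cancel] at tv
  set P := (u + -1) ^ a - u ^ a
  set Q := (v + 1) ^ (j + 1) - v ^ (j + 1)
  rw [le_div_iff₀ (by linarith), ← mul_le_mul_iff_of_pos_right (show (0 : ℝ) < n by linarith),
    mul_assoc, ← pow_two]
  have e2 : |((j + 1 : ℕ) : ℝ) * (u ^ a * v ^ j) - (a : ℝ) * (u ^ (a - 1) * v ^ (j + 1)) -
      (P * v ^ (j + 1) + u ^ a * Q + P * Q)| ≤
      |P - (a : ℝ) * (-1) * u ^ (a - 1)| * |v ^ (j + 1)| +
        |u ^ a| * |Q - ((j + 1 : ℕ) : ℝ) * 1 * v ^ j| + |P| * |Q| := by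
    rw [← abs_mul, ← abs_mul, ← abs_mul]
    refine le_trans (le_of_eq ?_) ((abs_add_le _ _).trans (add_le_add (abs_add_le _ _) le_rfl))
    rw [← abs_neg]; congr 1; ring
  refine (mul_le_mul_of_nonneg_right e2 (by positivity)).trans ?_
  rw [abs_pow, abs_pow]
  have b1 : |P - (a : ℝ) * (-1) * u ^ (a - 1)| * |v| ^ (j + 1) * (n : ℝ) ^ 2 ≤
      4 ^ a * ((n : ℝ) ^ (a + j) * n) := by
    rw [mul_right_comm]
    refine (mul_le_mul tu (pow_le_pow_left₀ (abs_nonneg _) hv _) (by positivity)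
      (by positivity)).trans_eq ?_
    ring
  have b2 : |u| ^ a * |Q - ((j + 1 : ℕ) : ℝ) * 1 * v ^ j| * (n : ℝ) ^ 2 ≤
      4 ^ (j + 1) * ((n : ℝ) ^ (a + j) * n) := by
    rw [mul_assoc]
    refine (mul_le_mul (pow_le_pow_left₀ (abs_nonneg _) hu _) tv (by positivity)
      (by positivity)).trans_eq ?_
    ring
  have b3 : |P| * |Q| * (n : ℝ) ^ 2 ≤
      (4 ^ a + a) * (4 ^ (j + 1) + (j + 1 : ℕ)) * ((n : ℝ) ^ (a + j) * n) := by
    rw [pow_two, mul_mul_mul_comm]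
    refine (mul_le_mul du dv (by positivity) (by positivity)).trans_eq ?_
    ring
  rw [add_mul, add_mul]
  simp only [K]
  nlinarith [b1, b2, b3]

theorem S_asymp : ∀ (a j : ℕ), ∃ C : ℝ, ∀ n : ℕ, 1 ≤ n →
    |S a j n - (a.factorial : ℝ) * j.factorial / (a + j + 1).factorial * (n : ℝ) ^ (a + j + 1)| ≤
      C * (n : ℝ) ^ (a + j) := by
  intro a
  induction a with
  | zero =>
    intro j
    obtain ⟨C, hC⟩ := parts 0 j
    refine ⟨C / (j + 1 : ℕ), fun n hn => ?_⟩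
    have h := hC n hn
    rw [if_pos rfl, Nat.cast_zero, zero_mul, sub_zero] at h
    have hj : (0 : ℝ) < (j + 1 : ℕ) := by positivity
    rw [zero_add] at h ⊢
    refine le_trans ?_ (le_of_eq (div_mul_eq_mul_div _ _ _).symm)
    rw [Nat.factorial_succ, Nat.factorial_zero, le_div_iff₀ hj]
    refine le_trans (le_of_eq ?_) h
    rw [← abs_of_pos hj, ← abs_mul, abs_of_pos hj]
    congr 1
    have : (j.factorial : ℝ) ≠ 0 := Nat.cast_ne_zero.2 j.factorial_ne_zero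
    push_cast; field_simp
  | succ a ih =>
    intro j
    obtain ⟨C, hC⟩ := parts (a + 1) j
    obtain ⟨C', hC'⟩ := ih (j + 1)
    refine ⟨(C + (a + 1 : ℕ) * C') / (j + 1 : ℕ), fun n hn => ?_⟩
    have h := hC n hn
    rw [if_neg (Nat.succ_ne_zero a), sub_zero, Nat.add_sub_cancel] at h
    have h' := hC' n hn
    have hj : (0 : ℝ) < (j + 1 : ℕ) := by positivity
    rw [show a + (j + 1) + 1 = a + 1 + j + 1 by omega, show a + (j + 1) = a + 1 + j by omega] at h'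
    refine le_trans ?_ (le_of_eq (div_mul_eq_mul_div _ _ _).symm)
    rw [le_div_iff₀ hj]
    set E := (n : ℝ) ^ (a + 1 + j + 1)
    calc |S (a + 1) j n - ((a + 1).factorial : ℝ) * j.factorial / (a + 1 + j + 1).factorial * E| *
          ((j + 1 : ℕ) : ℝ)
        = |(((j + 1 : ℕ) : ℝ) * S (a + 1) j n - ((a + 1 : ℕ) : ℝ) * S a (j + 1) n) +
            ((a + 1 : ℕ) : ℝ) * (S a (j + 1) n -
              (a.factorial : ℝ) * (j + 1).factorial / (a + 1 + j + 1).factorial * E)| := by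
          rw [← abs_of_pos hj, ← abs_mul, abs_of_pos hj]
          congr 1
          rw [Nat.factorial_succ a, Nat.factorial_succ j]
          push_cast; ring
      _ ≤ C * (n : ℝ) ^ (a + 1 + j) + ((a + 1 : ℕ) : ℝ) * (C' * (n : ℝ) ^ (a + 1 + j)) := by
          refine (abs_add_le _ _).trans (add_le_add h ?_)
          rw [abs_mul, Nat.abs_cast]
          exact mul_le_mul_of_nonneg_left h' (by positivity)
      _ = _ := by ring

end Groth.Agent.Lib.Lech
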