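import Groth.Agent.Lib.Koszul.Bounds

/-!
# Polynomial bounds on the Koszul homology of powers over a Noetherian ring (not nec. local)
-/

universe u

open CategoryTheory CategoryTheory.Limits CochainComplex
open scoped Pointwise

namespace Groth.Agent.Lib.Lech

open Groth.Agent.Lib.Koszul Groth.Agent.Lib.Koszul.Basic Groth.Agent.Lib.Koszul.Euler
open Groth.Agent.Lib.Koszul.Bounds

variable {A : Type u} [CommRing A] [IsNoetherianRing A]

/-- `length H^j(l^n; N) ≤ c n^e` as soon as `|l| + j ≤ e`. -/
theorem exists_bound : ∀ (k : ℕ) (l : List A), l.length = k →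
    ∀ (N : Type u) [AddCommGroup N] [Module A N], Module.Finite A N →
      IsFiniteLength A (N ⧸ (span' l • ⊤ : Submodule A N)) → ∀ (j : ℤ) (e : ℕ),
      (k : ℤ) + j ≤ e →
      ∃ c : ℕ, ∀ n : ℕ, 0 < n → hlen N (l.map (· ^ n)) j ≤ ((c * n ^ e : ℕ) : ℕ∞) := by
  intro k
  induction k with
  | zero =>
    intro l hl N _ _ _ hfl j e _
    rw [List.length_eq_zero_iff] at hl
    subst hl
    have hN : IsFiniteLength A N := LinearEquiv.isFiniteLength
      (Submodule.quotEquivOfEqBot _ (by simp [span'])) hfl
    obtain ⟨c, hc⟩ := ENat.ne_top_iff_exists.1 (Module.length_ne_top_iff.2 hN)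
    refine ⟨c, fun n hn => (hlen_le_two_pow N [] j).trans ?_⟩
    rw [← hc]
    simp only [List.length_nil, pow_zero, Nat.cast_one, one_mul]
    exact_mod_cast Nat.le_mul_of_pos_right c (pow_pos hn e)
  | succ k ih =>
    intro l hlen' N _ _ hN
    induction hN using IsNoetherianRing.induction_on_isQuotientEquivQuotientPrime A with
    | subsingleton N =>
      intro _ j e _
      refine ⟨0, fun n _ => (hlen_le_two_pow N _ j).trans ?_⟩
      rw [Module.length_eq_zero, mul_zero]
      exact zero_le
    | exact N₁ N₂ N₃ f g hf hg hfg h₁ h₃ =>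
      intro hfl j e he
      obtain ⟨c1, hc1⟩ := h₁
        (isFiniteLength_quot_mono hfl (Module.support_subset_of_injective f hf)) j e he
      obtain ⟨c3, hc3⟩ := h₃
        (isFiniteLength_quot_mono hfl (Module.support_subset_of_surjective g hg)) j e he
      refine ⟨c1 + c3, fun n hn => (hlen_add_le f g hf hg hfg _ j).trans ?_⟩
      refine (add_le_add (hc1 n hn) (hc3 n hn)).trans (le_of_eq ?_)
      rw [← Nat.cast_add, add_mul]
    | quotient N p φ =>
      intro hfl j e he
      by_cases hall : ∀ a ∈ l, a ∈ p.asIdeal
      · have hkill : ∀ a ∈ p.asIdeal, a ∈ Module.annihilator A N := fun a ha =>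
          Module.mem_annihilator.2 fun m => φ.injective (by
            rw [map_smul, map_zero]
            obtain ⟨b, hb⟩ := Ideal.Quotient.mk_surjective (φ m)
            rw [← hb, Algebra.smul_def, Ideal.Quotient.algebraMap_eq,
              Ideal.Quotient.eq_zero_iff_mem.2 ha, zero_mul])
        have hbot : (span' l • ⊤ : Submodule A N) = ⊥ := by
          rw [eq_bot_iff, Submodule.smul_le]
          intro b hb m _
          exact (Submodule.mem_bot A).2 (Module.mem_annihilator.1
            ((Ideal.span_le.2 fun c hc => hkill c (hall c hc) :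
              span' l ≤ Module.annihilator A N) hb) m)
        have hN' : IsFiniteLength A N :=
          LinearEquiv.isFiniteLength (Submodule.quotEquivOfEqBot _ hbot) hfl
        obtain ⟨c, hc⟩ := ENat.ne_top_iff_exists.1 (Module.length_ne_top_iff.2 hN')
        refine ⟨2 ^ (k + 1) * c, fun n hn => (hlen_le_two_pow N _ j).trans ?_⟩
        rw [← hc, List.length_map, hlen', ← Nat.cast_mul]
        exact_mod_cast Nat.le_mul_of_pos_right _ (pow_pos hn e)
      · push Not at hall
        obtain ⟨a, hal, hap⟩ := hall
        classical
        obtain ⟨r, hr⟩ : ∃ r, l.Perm (a :: r) := ⟨_, List.perm_cons_erase hal⟩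
        have hreg : IsSMulRegular N a := fun x y hxy => φ.injective (by
          have e := congrArg φ hxy
          simp only [map_smul] at e
          obtain ⟨b, hb⟩ := Ideal.Quotient.mk_surjective (φ x)
          obtain ⟨c, hc⟩ := Ideal.Quotient.mk_surjective (φ y)
          rw [← hb, ← hc, Ideal.Quotient.eq]
          rw [← hb, ← hc] at e
          refine (p.2.mem_or_mem (show a * (b - c) ∈ p.asIdeal from ?_)).resolve_left hap
          rw [mul_sub, ← Ideal.Quotient.eq]
          exact e)
        have hrlen : r.length = k := by
          have := hr.length_eq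
          rw [hlen', List.length_cons] at this
          omega
        have hfl' : IsFiniteLength A
            (QuotSMulTop a N ⧸ (span' r • ⊤ : Submodule A (QuotSMulTop a N))) := by
          refine isFiniteLength_quot hfl fun q hq hJ => ?_
          rw [Module.support_quotSMulTop] at hq
          refine ⟨hq.1, Ideal.span_le.2 fun b hb => ?_⟩
          rcases List.mem_cons.1 (hr.mem_iff.1 hb) with rfl | hb'
          · exact hq.2 (Set.mem_singleton _)
          · exact hJ (Ideal.subset_span hb')
        have hred : ∀ n : ℕ, hlen N (l.map (· ^ n)) j ≤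
            (n : ℕ∞) * hlen (QuotSMulTop a N) (r.map (· ^ n)) j := fun n => by
          rw [hlen_perm N (hr.map _), List.map_cons, hlen_cons_regular N (hreg.pow n)]
          exact hlen_pow_le N hreg _ j n
        by_cases hlow : (k : ℤ) + j < 0
        · refine ⟨0, fun n _ => (hred n).trans ?_⟩
          have := ModuleCat.isZero_iff_subsingleton.1
            (isZero_of_lt (ModuleCat.of A (QuotSMulTop a N)) (r.map (· ^ n)) j
              (by rw [List.length_map, hrlen]; omega))
          rw [hlen, Module.length_eq_zero, mul_zero]
          exact zero_le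
        obtain ⟨e', rfl⟩ : ∃ e', e = e' + 1 :=
          Nat.exists_eq_succ_of_ne_zero (by rintro rfl; push_cast at he; omega)
        obtain ⟨c, hc⟩ := ih r hrlen (QuotSMulTop a N) inferInstance hfl' j e'
          (by push_cast at he; omega)
        refine ⟨c, fun n hn => (hred n).trans ?_⟩
        refine (mul_le_mul' le_rfl (hc n hn)).trans (le_of_eq ?_)
        rw [← Nat.cast_mul]
        congr 1
        ring

end Groth.Agent.Lib.Lech
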