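import Groth.Agent.Lib.Lech.Asym
import Groth.Agent.Lib.Lech.Bound
import Groth.Agent.Lib.Koszul.Serre

/-!
# Samuel multiplicity = Euler characteristic of the Koszul complex
-/

universe u

open Filter Topology CategoryTheory

namespace Groth.Agent.Lib.Lech

open Groth.Agent.Lib.Koszul Groth.Agent.Lib.Koszul.Basic Groth.Agent.Lib.Koszul.Euler
open Groth.Agent.Lib.Koszul.Chi Groth.Agent.Lib.Koszul.Bounds

variable {A : Type u} [CommRing A] [IsNoetherianRing A]

theorem tendsto_samuel_chi (r : ℕ) (x : Fin r → A) (M : Type u) [AddCommGroup M] [Module A M]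
    [Module.Finite A M]
    (hfl : IsFiniteLength A (M ⧸ Ideal.span (Set.range x) • (⊤ : Submodule A M))) :
    Tendsto (fun t : ℕ => (r.factorial : ℝ) * ((Module.length A (M ⧸ (Ideal.span (Set.range x) ^ t •
        (⊤ : Submodule A M)))).toNat : ℝ) / (t : ℝ) ^ r) atTop
      (𝓝 (((chi (DRing.tensorCx (_root_.Koszul.koszul A (List.ofFn x)) (ModuleCat.of A M))) : ℤ) :
        ℝ)) := by
  rw [Serre.chi_tensorCx]
  obtain ⟨cm, hT, hB⟩ := lech x (Module.length_ne_top_iff.2 hfl)
  suffices hcm : ((chi (koszulOn (sgl (ModuleCat.of A M)) (List.ofFn x)) : ℤ) : ℝ) = (cm : ℝ) by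
    rw [hcm]
    have h := hT.const_mul (r.factorial : ℝ)
    rw [mul_div_cancel₀ _ (Nat.cast_ne_zero.2 r.factorial_ne_zero)] at h
    exact h.congr fun t => (mul_div_assoc _ _ _).symm
  have hfl' : IsFiniteLength A
      (M ⧸ (span' (List.ofFn x) • ⊤ : Submodule A M)) := by rwa [span'_ofFn]
  set H : ℕ → ℤ → ℝ := fun n i => ((Chi.len A
    ((koszulOn (sgl (ModuleCat.of A M)) (List.ofFn fun j => x j ^ n)).homology i) : ℤ) : ℝ) with hH
  -- the sum over `0 ≤ i ≤ r` of the signed lengths
  have hchi : ∀ n : ℕ, ((n : ℝ) ^ r) * (chi (koszulOn (sgl (ModuleCat.of A M)) (List.ofFn x)) : ℝ) =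
      ∑ i ∈ Finset.range (r + 1), (sg (-(i : ℤ)) : ℝ) * H n (-(i : ℤ)) := by
    intro n
    have h := (fin_and_chi_pow_list (ModuleCat.of A M) (List.ofFn fun j => (x j, n)) [] (by
      rw [List.append_nil, List.map_ofFn]
      exact fin_koszulOn (ModuleCat.of A M) (List.ofFn x) hfl')).2
    rw [List.append_nil, List.append_nil, List.map_ofFn, List.map_ofFn, List.map_ofFn,
      List.prod_ofFn] at h
    simp only [Function.comp_def, Finset.prod_const, Finset.card_univ, Fintype.card_fin] at h
    have e : chi (koszulOn (sgl (ModuleCat.of A M)) (List.ofFn fun j => x j ^ n)) =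
        ∑ i ∈ (Finset.range (r + 1)).image (fun i : ℕ => -(i : ℤ)),
          sg i * Chi.len A
            ((koszulOn (sgl (ModuleCat.of A M)) (List.ofFn fun j => x j ^ n)).homology i) := by
      refine finsum_eq_sum_of_support_subset _ fun i hi => ?_
      simp only [Finset.coe_image, Set.mem_image, Finset.coe_range, Set.mem_Iio]
      refine ⟨(-i).toNat, ?_, ?_⟩ <;> by_contra hc <;> refine hi ?_ <;>
        have hout : 0 < i ∨ i < -(r : ℤ) := by omega
      all_goals
        have : Subsingleton
            ((koszulOn (sgl (ModuleCat.of A M)) (List.ofFn fun j => x j ^ n)).homology i) := by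
          rcases hout with hout | hout
          · exact ModuleCat.isZero_iff_subsingleton.1 (isZero_of_pos _ _ i hout)
          · exact ModuleCat.isZero_iff_subsingleton.1 (isZero_of_lt _ _ i (by simpa using hout))
        simp [len_subsingleton]
    rw [Finset.sum_image (fun a _ b _ hab => by simpa using hab)] at e
    have h' : ((n : ℤ) ^ r) * chi (koszulOn (sgl (ModuleCat.of A M)) (List.ofFn x)) =
        ∑ i ∈ Finset.range (r + 1), sg (-(i : ℤ)) * Chi.len A
          ((koszulOn (sgl (ModuleCat.of A M)) (List.ofFn fun j => x j ^ n)).homology (-(i : ℤ))) := by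
      rw [← e, h]
    simp only [hH]
    exact_mod_cast h'
  have hlim : ∀ i ∈ Finset.range (r + 1),
      Tendsto (fun n : ℕ => (sg (-(i : ℤ)) : ℝ) * (H n (-(i : ℤ)) / (n : ℝ) ^ r)) atTop
        (𝓝 (if i = 0 then (cm : ℝ) else 0)) := by
    intro i hi
    rw [Finset.mem_range] at hi
    rcases eq_or_ne i 0 with rfl | hi0
    · rw [if_pos rfl]
      refine hB.congr fun n => ?_
      obtain ⟨e⟩ := nonempty_homology_zero (ModuleCat.of A M) (List.ofFn fun j => x j ^ n)
      have hof : Ideal.ofList (List.ofFn fun j => x j ^ n) =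
          Ideal.span (Set.range fun j => x j ^ n) := span'_ofFn _
      rw [hof] at e
      simp only [hH, Nat.cast_zero, neg_zero, sg, Int.negOnePow_zero, Units.val_one, Int.cast_one,
        one_mul, Chi.len, e.length_eq, Int.cast_natCast]
    · rw [if_neg hi0]
      obtain ⟨c, hc⟩ := exists_bound r (List.ofFn x) List.length_ofFn M inferInstance hfl'
        (-(i : ℤ)) (r - i) (by omega)
      rw [show (0 : ℝ) = (sg (-(i : ℤ)) : ℝ) * 0 by rw [mul_zero]]
      refine Tendsto.const_mul _ ?_
      refine squeeze_zero' (g := fun n : ℕ => (c : ℝ) / (n : ℝ)) ?_ ?_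
        (tendsto_const_div_atTop_nhds_zero_nat (c : ℝ))
      · exact Eventually.of_forall fun n => div_nonneg
          (by simp only [hH, Chi.len, Int.cast_natCast]; exact Nat.cast_nonneg _) (by positivity)
      · filter_upwards [eventually_ne_atTop 0] with n hn
        have hbd := hc n (Nat.pos_of_ne_zero hn)
        rw [List.map_ofFn] at hbd
        have h1 : H n (-(i : ℤ)) ≤ ((c * n ^ (r - i) : ℕ) : ℝ) := by
          simp only [hH, Chi.len, Int.cast_natCast]
          exact Nat.cast_le.2 (ENat.toNat_le_toNat hbd (ENat.natCast_ne_top _))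
        have hn1 : (1 : ℝ) ≤ n := Nat.one_le_cast.2 (Nat.pos_of_ne_zero hn)
        refine (div_le_div_of_nonneg_right h1 (by positivity)).trans ?_
        rw [div_le_div_iff₀ (by positivity) (by positivity)]
        push_cast
        rw [mul_assoc, ← pow_succ]
        exact mul_le_mul_of_nonneg_left (pow_le_pow_right₀ hn1 (by omega)) (Nat.cast_nonneg c)
  have hsum := tendsto_finsetSum (Finset.range (r + 1)) hlim
  rw [Finset.sum_ite_eq' (Finset.range (r + 1)) 0 (fun _ => (cm : ℝ)),
    if_pos (by simp)] at hsum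
  refine tendsto_nhds_unique (Tendsto.congr' ?_ tendsto_const_nhds) hsum
  filter_upwards [eventually_ne_atTop 0] with n hn
  simp only [← mul_div_assoc, ← Finset.sum_div, ← hchi]
  rw [mul_div_cancel_left₀ _ (pow_ne_zero _ (Nat.cast_ne_zero.2 hn))]

end Groth.Agent.Lib.Lech

namespace Groth.Agent.Lib.Lech

open Groth.Agent.Lib.Koszul Groth.Agent.Lib.Koszul.Basic Groth.Agent.Lib.Koszul.Chi

/-- The real form of the Euler characteristic. -/
theorem chi_cast_eq_finsum {A : Type u} [CommRing A] (l : List A) (M : ModuleCat.{u} A) :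
    ((chi (DRing.tensorCx (_root_.Koszul.koszul A l) M) : ℤ) : ℝ) =
      ∑ᶠ i : ℤ, (((i.negOnePow : ℤˣ) : ℤ) : ℝ) *
        ((Module.length A ((DRing.tensorCx (_root_.Koszul.koszul A l) M).homology i)).toNat : ℝ) := by
  obtain ⟨s, hs⟩ : Bdd (DRing.tensorCx (_root_.Koszul.koszul A l) M) :=
    bdd_congr (fun i => (Tensor.tensorHomologyIso l M i).symm) (Euler.bdd_koszulOn M l)
  refine ((Int.castAddHom ℝ).map_finsum (hasFiniteSupport_of_bdd (A := A)
    (fun i => (DRing.tensorCx (_root_.Koszul.koszul A l) M).homology i) s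
    fun i hi => ModuleCat.isZero_iff_subsingleton.1 (hs i hi))).trans ?_
  exact finsum_congr fun i => by simp [Chi.len, sg]

end Groth.Agent.Lib.Lech
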