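import Groth.Agent.Lib.Lech.Asym
import Mathlib.Order.WellFoundedSet

/-!
# Antitone functions on exponents factor through clamping; counting the fibres of clamping
-/

open Filter Topology Finset

namespace Groth.Agent.Lib.Lech

/-- truncation of an exponent at `N` -/
def clamp {ι : Type*} (N : ℕ) (α : ι → ℕ) : ι → ℕ := fun i => min (α i) N

theorem exists_clamp {ι : Type*} [Finite ι] (c : (ι → ℕ) → ℕ)
    (hc : ∀ α β : ι → ℕ, α ≤ β → c β ≤ c α) : ∃ N : ℕ, ∀ α, c (clamp N α) = c α := by
  cases nonempty_fintype ι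
  by_contra! h
  choose a ha using h
  obtain ⟨g, hg⟩ := (Set.isPWO_of_wellQuasiOrderedLE (Set.univ : Set (ι → ℕ))).exists_monotone_subseq
    (f := a) (fun _ => Set.mem_univ _)
  obtain ⟨i₀, hi₀⟩ : ∃ i₀, ∀ j, i₀ ≤ j → c (a (g i₀)) ≤ c (a (g j)) :=
    ⟨Function.argmin (fun i => c (a (g i))), fun j _ =>
      Function.argmin_le (fun i => c (a (g i))) j⟩
  set B := ∑ i, a (g i₀) i with hB
  refine ha (g (i₀ + B)) (le_antisymm ?_ (hc _ _ fun i => min_le_left _ _))
  refine le_trans (hc (a (g i₀)) _ fun i => ?_) (hi₀ _ (Nat.le_add_right _ _))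
  refine le_min (hg (Nat.le_add_right i₀ B) i) ?_
  calc a (g i₀) i ≤ B := Finset.single_le_sum (f := fun i => a (g i₀) i)
        (fun j _ => Nat.zero_le _) (Finset.mem_univ i)
    _ ≤ i₀ + B := Nat.le_add_left _ _
    _ ≤ g (i₀ + B) := g.strictMono.le_apply

variable {ι : Type*} [Fintype ι] [DecidableEq ι]

/-- the clamped exponents -/
def corner (N : ℕ) : Finset (ι → ℕ) := Fintype.piFinset fun _ => Finset.range (N + 1)

theorem clamp_mem_corner (N : ℕ) (α : ι → ℕ) : clamp N α ∈ (corner N : Finset (ι → ℕ)) := by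
  simp [corner, clamp]

/-- the coordinates at which `p` reaches `N` -/
def free (N : ℕ) (p : ι → ℕ) : Finset ι := Finset.univ.filter fun i => p i = N

theorem card_free_le (N : ℕ) (p : ι → ℕ) : (free N p).card ≤ Fintype.card ι :=
  Finset.card_le_univ _

theorem clamp_eq_iff {N : ℕ} {p : ι → ℕ} (hp : p ∈ corner N) (α : ι → ℕ) :
    clamp N α = p ↔ ∀ i, if p i = N then N ≤ α i else α i = p i := by
  simp only [corner, Fintype.mem_piFinset, Finset.mem_range] at hp
  rw [funext_iff]
  refine forall_congr' fun i => ?_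
  have := hp i
  simp only [clamp]
  split_ifs <;> omega

theorem card_fibre_eq {N m : ℕ} {p : ι → ℕ} (hp : p ∈ corner N) (hm : ∑ i, p i ≤ m) :
    ((Finset.univ.piAntidiag m).filter fun α => clamp N α = p).card =
      (free N p).card.multichoose (m - ∑ i, p i) := by
  have hT : (free N p).card = Fintype.card {i // i ∈ free N p} := (Fintype.card_coe _).symm
  rw [hT]
  have hcard : ((Finset.univ : Finset {i // i ∈ free N p}).piAntidiag (m - ∑ i, p i)).card =
      (Fintype.card {i // i ∈ free N p}).multichoose (m - ∑ i, p i) := by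
    rw [← Finset.map_sym_eq_piAntidiag, Finset.card_map, Finset.sym_univ, Finset.card_univ,
      Sym.card_sym_eq_multichoose]
  rw [← hcard]
  have hmem : ∀ i, i ∈ free N p ↔ p i = N := fun i => by simp [free]
  refine Finset.card_bij' (fun α _ i => α i.1 - p i.1)
    (fun f _ i => p i + if h : i ∈ free N p then f ⟨i, h⟩ else 0) ?_ ?_ ?_ ?_
  · intro α hα
    simp only [Finset.mem_filter, Finset.mem_piAntidiag, Finset.mem_univ, implies_true, and_true,
      clamp_eq_iff hp] at hα ⊢
    obtain ⟨hsum, h⟩ := hα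
    have hout : ∀ i, i ∉ free N p → α i - p i = 0 := fun i hi => by
      have := h i; rw [if_neg (mt (hmem i).2 hi)] at this; omega
    rw [← Finset.sum_subtype (free N p) (fun i => Iff.rfl) (fun i => α i - p i),
      Finset.sum_subset (Finset.subset_univ _) (fun i _ hi => hout i hi),
      Finset.sum_tsub_distrib _ fun i _ => ?_, hsum]
    have := h i; split_ifs at this <;> omega
  · intro f hf
    simp only [Finset.mem_filter, Finset.mem_piAntidiag, Finset.mem_univ, implies_true, and_true,
      clamp_eq_iff hp] at hf ⊢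
    refine ⟨?_, fun i => ?_⟩
    · have hf' : (∑ i, if h : i ∈ free N p then f ⟨i, h⟩ else 0) = Finset.univ.sum f := by
        rw [← Finset.sum_subset (Finset.subset_univ (free N p)) (fun i _ hi => dif_neg hi),
          Finset.sum_subtype (free N p) (fun i => Iff.rfl)
            (fun i => if h : i ∈ free N p then f ⟨i, h⟩ else 0)]
        exact Finset.sum_congr rfl fun i _ => dif_pos i.2
      rw [Finset.sum_add_distrib, hf', hf]
      omega
    · split_ifs with h1 h2 h2
      · omega
      · exact absurd ((hmem i).2 h1) h2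
      · exact absurd ((hmem i).1 h2) h1
      · omega
  · intro α hα
    simp only [Finset.mem_filter, clamp_eq_iff hp] at hα
    funext i
    have := hα.2 i
    by_cases h : i ∈ free N p
    · rw [dif_pos h]; rw [if_pos ((hmem i).1 h)] at this; have := (hmem i).1 h; simp only; omega
    · rw [dif_neg h]; rw [if_neg (mt (hmem i).2 h)] at this; omega
  · intro f hf
    funext i
    simp [i.2]

variable {r : ℕ}

theorem degLt_eq (t : ℕ) :
    degLt r t = (Finset.range t).biUnion fun s => (Finset.univ : Finset (Fin r)).piAntidiag s := rfl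

theorem card_fibre_degLt {N : ℕ} {p : Fin r → ℕ} (hp : p ∈ corner N) (u : ℕ) :
    ((degLt r (∑ i, p i + (u + 1))).filter fun α => clamp N α = p).card =
      (u + (free N p).card).choose (free N p).card := by
  rw [degLt_eq, Finset.filter_biUnion, Finset.card_biUnion, Finset.sum_range_add]
  · rw [Finset.sum_eq_zero fun s hs => ?_, zero_add]
    · rw [← Nat.sum_range_multichoose]
      refine Finset.sum_congr rfl fun s _ => ?_
      rw [card_fibre_eq hp (Nat.le_add_right _ _), Nat.add_sub_cancel_left]
    · rw [Finset.card_eq_zero, Finset.filter_eq_empty_iff]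
      intro α hα he
      rw [Finset.mem_range] at hs
      obtain ⟨hsum, -⟩ := Finset.mem_piAntidiag.1 hα
      change ∑ i, α i = s at hsum
      have : ∑ i, p i ≤ ∑ i, α i := Finset.sum_le_sum fun i _ => he ▸ min_le_left _ _
      omega
  · exact fun a _ b _ hab => Finset.disjoint_left.2 fun f hfa hfb => hab
      ((Finset.mem_piAntidiag.1 (Finset.mem_filter.1 hfa).1).1.symm.trans
        (Finset.mem_piAntidiag.1 (Finset.mem_filter.1 hfb).1).1)

theorem card_fibre_box {N n : ℕ} {p : Fin r → ℕ} (hp : p ∈ corner N) (hn : N < n) :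
    ((box r n).filter fun α => clamp N α = p).card = (n - N) ^ (free N p).card := by
  have hlt : ∀ i, p i ≤ N := fun i => by
    simp only [corner, Fintype.mem_piFinset, Finset.mem_range] at hp
    have := hp i; omega
  have : (box r n).filter (fun α => clamp N α = p) =
      Fintype.piFinset fun i => if p i = N then Finset.Ico N n else {p i} := by
    ext α
    simp only [Finset.mem_filter, mem_box, Fintype.mem_piFinset, clamp_eq_iff hp]
    constructor
    · rintro ⟨h1, h2⟩ i
      have := h2 i; have := h1 i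
      split_ifs at * <;> simp <;> omega
    · intro h
      refine ⟨fun i => ?_, fun i => ?_⟩ <;> have := h i <;> have := hlt i <;>
        split_ifs at * <;> simp at * <;> omega
  rw [this, Fintype.card_piFinset]
  simp only [apply_ite Finset.card, Nat.card_Ico, Finset.card_singleton]
  rw [Finset.prod_ite, Finset.prod_const, Finset.prod_const, one_pow, mul_one]
  rfl

theorem sum_eq_sum_corner {N : ℕ} {c : (Fin r → ℕ) → ℕ} (hN : ∀ α, c (clamp N α) = c α)
    (S : Finset (Fin r → ℕ)) :
    ∑ α ∈ S, c α = ∑ p ∈ corner N, c p * (S.filter fun α => clamp N α = p).card := by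
  rw [← Finset.sum_fiberwise_of_maps_to (fun α _ => clamp_mem_corner N α)]
  refine Finset.sum_congr rfl fun p _ => ?_
  rw [mul_comm, ← smul_eq_mul, ← Finset.sum_const]
  exact Finset.sum_congr rfl fun α hα => by rw [← hN α, (Finset.mem_filter.1 hα).2]

/-- For an antitone function: if the simplex averages converge to `e / d!`, the box averages
converge to `e`. -/
theorem tendsto_box_of_simplex {d : ℕ} {e : ℝ} (c : (Fin r → ℕ) → ℕ)
    (hc : ∀ α β : Fin r → ℕ, α ≤ β → c β ≤ c α)
    (h : Tendsto (fun t : ℕ => ((∑ α ∈ degLt r t, c α : ℕ) : ℝ) / (t : ℝ) ^ d) atTop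
      (𝓝 (e / d.factorial))) :
    Tendsto (fun n : ℕ => ((∑ α ∈ box r n, c α : ℕ) : ℝ) / (n : ℝ) ^ d) atTop (𝓝 e) := by
  obtain ⟨N, hN⟩ := exists_clamp c hc
  set k : (Fin r → ℕ) → ℕ := fun p => (free N p).card with hk
  have hr : Tendsto (fun t : ℕ => (((t + 0 : ℕ) : ℝ))) atTop atTop := tendsto_natCast_atTop_atTop
  have hbnd : ∀ p ∈ corner N, ∀ u : ℕ,
      ((u + 1 : ℕ) : ℝ) ^ k p ≤ ((k p).factorial : ℝ) *
        (((degLt r (∑ i, p i + (u + 1))).filter fun α => clamp N α = p).card : ℝ) ∧
      ((k p).factorial : ℝ) *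
        (((degLt r (∑ i, p i + (u + 1))).filter fun α => clamp N α = p).card : ℝ) ≤
        ((u + k p : ℕ) : ℝ) ^ k p := fun p hp u => by
    rw [card_fibre_degLt hp]
    constructor
    · exact_mod_cast (Nat.pow_succ_le_ascFactorial (u + 1) (k p)).trans_eq
        (Nat.ascFactorial_eq_factorial_mul_choose u (k p))
    · exact_mod_cast (Nat.ascFactorial_eq_factorial_mul_choose u (k p)).symm.trans_le
        (Nat.ascFactorial_le_pow_add u (k p))
  have hshift : ∀ a : ℕ, Tendsto (fun t : ℕ => ((t - a : ℕ) : ℝ) / (t : ℝ)) atTop (𝓝 1) := by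
    intro a
    have h1 : Tendsto (fun t : ℕ => 1 - (a : ℝ) / (t : ℝ)) atTop (𝓝 1) := by
      simpa using tendsto_const_nhds.sub (tendsto_const_div_atTop_nhds_zero_nat (a : ℝ))
    refine h1.congr' ?_
    filter_upwards [eventually_gt_atTop a] with t ht
    have : (t : ℝ) ≠ 0 := Nat.cast_ne_zero.2 (by omega)
    rw [Nat.cast_sub ht.le, sub_div, div_self this]
  have hgt : ∀ p ∈ corner N, d < k p → c p = 0 := by
    intro p hp hdk
    by_contra hcp
    have h1 : (1 : ℝ) ≤ c p := Nat.one_le_cast.2 (Nat.pos_of_ne_zero hcp)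
    set q := ∑ i, p i with hq
    have hge : Tendsto (fun t : ℕ => ((k p).factorial : ℝ) *
        (((∑ α ∈ degLt r t, c α : ℕ) : ℝ) / (t : ℝ) ^ d)) atTop atTop := by
      have hlow : Tendsto (fun t : ℕ => (t : ℝ) ^ (k p - d) * (((t - q : ℕ) : ℝ) / t) ^ k p) atTop
          atTop :=
        Tendsto.atTop_mul_pos one_pos
          ((tendsto_pow_atTop (by omega)).comp tendsto_natCast_atTop_atTop)
          (by simpa using (hshift q).pow (k p))
      refine tendsto_atTop_mono' _ ?_ hlow
      filter_upwards [eventually_gt_atTop q] with t ht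
      obtain ⟨u, rfl⟩ : ∃ u, t = q + (u + 1) := ⟨t - q - 1, by omega⟩
      have ht0 : (0 : ℝ) < ((q + (u + 1) : ℕ) : ℝ) := Nat.cast_pos.2 (by omega)
      rw [Nat.add_sub_cancel_left, div_pow, ← mul_div_assoc, ← mul_div_assoc,
        div_le_div_iff₀ (pow_pos ht0 _) (pow_pos ht0 _)]
      calc ((q + (u + 1) : ℕ) : ℝ) ^ (k p - d) * ((u + 1 : ℕ) : ℝ) ^ k p *
            ((q + (u + 1) : ℕ) : ℝ) ^ d
          = ((u + 1 : ℕ) : ℝ) ^ k p * ((q + (u + 1) : ℕ) : ℝ) ^ k p := by
            rw [mul_right_comm, ← pow_add, Nat.sub_add_cancel hdk.le, mul_comm]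
        _ ≤ _ := by
            refine mul_le_mul_of_nonneg_right ((hbnd p hp u).1.trans
              (mul_le_mul_of_nonneg_left ?_ (Nat.cast_nonneg _))) (pow_nonneg ht0.le _)
            rw [sum_eq_sum_corner hN]
            push_cast
            refine le_trans ?_ (Finset.single_le_sum (f := fun p => (c p : ℝ) *
              (((degLt r (q + (u + 1))).filter fun α => clamp N α = p).card : ℝ))
              (fun p _ => by positivity) hp)
            exact le_mul_of_one_le_left (Nat.cast_nonneg _) h1
    exact not_tendsto_nhds_of_tendsto_atTop hge _ (h.const_mul ((k p).factorial : ℝ))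
  have hbox : ∀ p ∈ corner N, Tendsto (fun n : ℕ => (c p : ℝ) *
      ((((box r n).filter fun α => clamp N α = p).card : ℝ) / (n : ℝ) ^ d)) atTop
      (𝓝 (if k p = d then (c p : ℝ) else 0)) := by
    intro p hp
    rcases lt_trichotomy (k p) d with hlt | heq | hgt'
    · rw [if_neg hlt.ne, show (0 : ℝ) = (c p : ℝ) * 0 by rw [mul_zero]]
      refine Tendsto.const_mul _ (squeeze_zero' (Eventually.of_forall fun n => by positivity) ?_
        (tendsto_const_div_atTop_nhds_zero_nat (1 : ℝ)))
      filter_upwards [eventually_gt_atTop N] with n hn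
      have hn1 : (1 : ℝ) ≤ n := Nat.one_le_cast.2 (by omega)
      rw [card_fibre_box hp hn, div_le_div_iff₀ (by positivity) (by positivity), one_mul]
      calc (((n - N) ^ (free N p).card : ℕ) : ℝ) * n ≤ (n : ℝ) ^ k p * n := by
            refine mul_le_mul_of_nonneg_right ?_ (by positivity)
            exact_mod_cast Nat.pow_le_pow_left (Nat.sub_le n N) _
        _ = (n : ℝ) ^ (k p + 1) := (pow_succ _ _).symm
        _ ≤ _ := pow_le_pow_right₀ hn1 hlt
    · rw [if_pos heq]
      suffices Tendsto (fun n : ℕ => (((box r n).filter fun α => clamp N α = p).card : ℝ) /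
          (n : ℝ) ^ d) atTop (𝓝 1) by simpa using this.const_mul (c p : ℝ)
      have := (hshift N).pow d
      rw [one_pow] at this
      refine this.congr' ?_
      filter_upwards [eventually_gt_atTop N] with n hn
      rw [card_fibre_box hp hn, div_pow, ← heq, Nat.cast_pow]
    · rw [if_neg hgt'.ne', hgt p hp hgt']
      simp
  have hsimp : ∀ p ∈ corner N, Tendsto (fun t : ℕ => (c p : ℝ) *
      ((((degLt r t).filter fun α => clamp N α = p).card : ℝ) / (t : ℝ) ^ d)) atTop
      (𝓝 ((if k p = d then (c p : ℝ) else 0) / d.factorial)) := by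
    intro p hp
    rcases le_or_gt (k p) d with hle | hgt'
    swap
    · rw [if_neg hgt'.ne', hgt p hp hgt']
      simp
    set q := ∑ i, p i with hq
    have hkf : (0 : ℝ) < (k p).factorial := Nat.cast_pos.2 (Nat.factorial_pos _)
    have hk1 : Tendsto (fun t : ℕ => (((degLt r t).filter fun α => clamp N α = p).card : ℝ) /
        (t : ℝ) ^ k p) atTop (𝓝 (1 / (k p).factorial)) := by
      refine tendsto_of_tendsto_of_tendsto_of_le_of_le'
        (g := fun t : ℕ => (((t - q : ℕ) : ℝ) / t) ^ k p / (k p).factorial)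
        (h := fun t : ℕ => (((t + k p : ℕ) : ℝ) / t) ^ k p / (k p).factorial)
        (by simpa using ((hshift q).pow (k p)).div_const _)
        (by simpa using (tendsto_shift (r := k p) (k p)).div_const ((k p).factorial : ℝ)) ?_ ?_
      all_goals
        filter_upwards [eventually_gt_atTop q] with t ht
        obtain ⟨u, rfl⟩ : ∃ u, t = q + (u + 1) := ⟨t - q - 1, by omega⟩
        have hb := hbnd p hp u
        have htp : (0 : ℝ) < ((q + (u + 1) : ℕ) : ℝ) ^ k p :=
          pow_pos (Nat.cast_pos.2 (by omega)) _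
        rw [div_pow, div_div, div_le_div_iff₀ (by positivity) (by positivity)]
      · rw [Nat.add_sub_cancel_left]
        nlinarith [mul_le_mul_of_nonneg_right hb.1 htp.le]
      · have hb2 := hb.2.trans (pow_le_pow_left₀ (Nat.cast_nonneg _)
          (Nat.cast_le.2 (show u + k p ≤ q + (u + 1) + k p by omega)) _)
        nlinarith [mul_le_mul_of_nonneg_right hb2 htp.le]
    rcases hle.eq_or_lt with heq | hlt
    · rw [if_pos heq, ← heq, div_eq_mul_one_div]
      exact hk1.const_mul _
    · rw [if_neg hlt.ne, zero_div, show (0 : ℝ) = (c p : ℝ) * 0 by rw [mul_zero]]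
      refine Tendsto.const_mul _ ?_
      have h0 := hk1.mul (tendsto_const_div_atTop_nhds_zero_nat (1 : ℝ))
      rw [mul_zero] at h0
      refine squeeze_zero' (Eventually.of_forall fun n => by positivity) ?_ h0
      filter_upwards [eventually_ge_atTop 1] with t ht
      have ht1 : (1 : ℝ) ≤ t := Nat.one_le_cast.2 ht
      rw [div_mul_div_comm, mul_one, ← pow_succ]
      exact div_le_div_of_nonneg_left (Nat.cast_nonneg _) (by positivity)
        (pow_le_pow_right₀ ht1 hlt)
  have hB := tendsto_finsetSum (corner N) hbox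
  have hS := tendsto_finsetSum (corner N) hsimp
  have hfun : ∀ (S : ℕ → Finset (Fin r → ℕ)) (n : ℕ),
      ((∑ α ∈ S n, c α : ℕ) : ℝ) / (n : ℝ) ^ d = ∑ p ∈ corner N, (c p : ℝ) *
        ((((S n).filter fun α => clamp N α = p).card : ℝ) / (n : ℝ) ^ d) := fun S n => by
    rw [sum_eq_sum_corner hN, Nat.cast_sum, Finset.sum_div]
    exact Finset.sum_congr rfl fun p _ => by rw [Nat.cast_mul, mul_div_assoc]
  have he := tendsto_nhds_unique h (hS.congr fun n => (hfun (degLt r) n).symm)
  rw [← Finset.sum_div, div_left_inj' (Nat.cast_ne_zero.2 d.factorial_ne_zero)] at he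
  rw [he]
  exact hB.congr fun n => (hfun (box r) n).symm

end Groth.Agent.Lib.Lech
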