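import Mathlib.RingTheory.Length
import Mathlib.RingTheory.Ideal.Operations
import Mathlib.Data.Prod.Lex
import Mathlib.Data.Finset.Max
import Mathlib.Order.PiLex
import Mathlib.Data.Sym.Card
import Mathlib.Algebra.Order.Antidiag.Pi
import Mathlib.Data.Nat.Choose.Sum

/-!
# The monomial filtration of a module by the monomials in a finite family of elements
-/

universe u v

open Pointwise

namespace Groth.Agent.Lib.Lech

variable {A : Type u} [CommRing A] {M : Type v} [AddCommGroup M] [Module A M]

theorem length_split (P : Submodule A M) (f : M →ₗ[A] M) :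
    Module.length A (M ⧸ P) =
      Module.length A (M ⧸ P.comap f) + Module.length A (M ⧸ (P ⊔ LinearMap.range f)) := by
  refine Module.length_eq_add_of_exact (Submodule.mapQ (P.comap f) P f le_rfl)
    (Submodule.factor (le_sup_left : P ≤ P ⊔ LinearMap.range f)) ?_
    (Submodule.factor_surjective _) ?_
  · rw [← LinearMap.ker_eq_bot, Submodule.ker_mapQ, Submodule.mkQ_map_self]
  · rw [LinearMap.exact_iff, Submodule.range_mapQ, Submodule.factor, Submodule.ker_mapQ,
      Submodule.comap_id, Submodule.map_sup, Submodule.mkQ_map_self, bot_sup_eq]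

variable {r : ℕ} (x : Fin r → A)

/-- total degree -/
def deg (α : Fin r → ℕ) : ℕ := ∑ i, α i

/-- monomial -/
def mon (α : Fin r → ℕ) : A := ∏ i, x i ^ α i

/-- degree, then lexicographic -/
def key (α : Fin r → ℕ) : ℕ ×ₗ Lex (Fin r → ℕ) := toLex (deg α, toLex α)

theorem key_injective : Function.Injective (key (r := r)) := fun α β h => by
  simpa [key] using congrArg (fun k => ofLex (ofLex k).2) h

theorem key_lt_of_deg_lt {α β : Fin r → ℕ} (h : deg α < deg β) : key α < key β :=
  Prod.Lex.toLex_lt_toLex.2 (Or.inl h)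

theorem deg_le_of_key_lt {α β : Fin r → ℕ} (h : key α < key β) : deg α ≤ deg β :=
  le_of_not_gt fun h' => lt_asymm h (key_lt_of_deg_lt h')

theorem deg_add (α β : Fin r → ℕ) : deg (α + β) = deg α + deg β := by
  simp [deg, Finset.sum_add_distrib]

theorem deg_single (i : Fin r) : deg (Pi.single i 1) = 1 := by
  simp [deg, Finset.sum_pi_single']

theorem key_add_lt {α β : Fin r → ℕ} (h : key α < key β) (e : Fin r → ℕ) :
    key (α + e) < key (β + e) := by
  rcases Prod.Lex.toLex_lt_toLex.1 h with h | ⟨h1, h2⟩
  · exact key_lt_of_deg_lt (by simp only at h; rw [deg_add, deg_add]; omega)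
  · refine Prod.Lex.toLex_lt_toLex.2 (Or.inr ⟨?_, ?_⟩)
    · simp only at h1 ⊢; rw [deg_add, deg_add, h1]
    · obtain ⟨i, hi, hlt⟩ := h2
      refine ⟨i, fun j hj => ?_, ?_⟩
      · show α j + e j = β j + e j
        rw [show α j = β j from hi j hj]
      · show α i + e i < β i + e i
        exact Nat.add_lt_add_right hlt _

theorem mon_add (α β : Fin r → ℕ) : mon x (α + β) = mon x α * mon x β := by
  simp [mon, pow_add, Finset.prod_mul_distrib]

theorem mon_single (i : Fin r) : mon x (Pi.single i 1) = x i := by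
  rw [mon, Finset.prod_eq_single i (fun j _ hj => by simp [hj]) (by simp)]
  simp

theorem mon_zero : mon x (0 : Fin r → ℕ) = 1 := by simp [mon]

theorem mon_mem (α : Fin r → ℕ) : mon x α ∈ Ideal.span (Set.range x) ^ deg α := by
  rw [deg, ← Finset.prod_pow_eq_pow_sum]
  exact Ideal.prod_mem_prod fun i _ =>
    Ideal.pow_mem_pow (Ideal.subset_span (Set.mem_range_self i)) _

variable (M) in
/-- `x^α M` -/
def piece (α : Fin r → ℕ) : Submodule A M := LinearMap.range (LinearMap.lsmul A M (mon x α))

theorem smul_mem_piece (α : Fin r → ℕ) (m : M) : mon x α • m ∈ piece M x α := ⟨m, rfl⟩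

theorem piece_zero : piece M x (0 : Fin r → ℕ) = ⊤ :=
  eq_top_iff.2 fun m _ => by simpa [mon_zero] using smul_mem_piece x (0 : Fin r → ℕ) m

variable (M) in
/-- the sum of the later pieces -/
def gt (α : Fin r → ℕ) : Submodule A M := ⨆ β, ⨆ (_ : key α < key β), piece M x β

/-- the colon submodule describing the graded piece at `α` -/
def J (N : Submodule A M) (α : Fin r → ℕ) : Submodule A M :=
  (N ⊔ gt M x α).comap (LinearMap.lsmul A M (mon x α))

/-- `N` plus the pieces outside a finite set -/
def rest (N : Submodule A M) (S : Finset (Fin r → ℕ)) : Submodule A M :=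
  N ⊔ ⨆ β, ⨆ (_ : β ∉ S), piece M x β

theorem length_rest (N : Submodule A M) (S : Finset (Fin r → ℕ))
    (hS : ∀ α ∈ S, ∀ β, key β < key α → β ∈ S) :
    Module.length A (M ⧸ rest x N S) = ∑ α ∈ S, Module.length A (M ⧸ J x N α) := by
  induction S using Finset.induction_on_max_value key with
  | empty =>
    have : Subsingleton (M ⧸ rest x N (∅ : Finset (Fin r → ℕ))) := by
      rw [Submodule.Quotient.subsingleton_iff, eq_top_iff, ← piece_zero (M := M) x]
      exact le_sup_of_le_right (le_iSup₂_of_le (0 : Fin r → ℕ) (Finset.notMem_empty _) le_rfl)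
    rw [Finset.sum_empty, Module.length_eq_zero]
  | insert a s has hmax ih =>
    have hs : ∀ α ∈ s, ∀ β, key β < key α → β ∈ s := fun α hα β hβ => by
      refine (Finset.mem_insert.1 (hS α (Finset.mem_insert_of_mem hα) β hβ)).resolve_left ?_
      rintro rfl
      exact absurd (hmax α hα) hβ.not_ge
    have hmem : ∀ β, β ∉ insert a s ↔ key a < key β := fun β => by
      constructor
      · intro h
        refine lt_of_le_of_ne (le_of_not_gt fun h' => h (hS a (Finset.mem_insert_self a s) β h')) ?_
        intro he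
        exact h (key_injective he ▸ Finset.mem_insert_self _ _)
      · intro h hb
        rcases Finset.mem_insert.1 hb with rfl | hb
        · exact lt_irrefl _ h
        · exact absurd (hmax β hb) h.not_ge
    have h1 : rest x N (insert a s) = N ⊔ gt M x a := by simp only [rest, gt, hmem]
    have h2 : rest x N s = N ⊔ gt M x a ⊔ LinearMap.range (LinearMap.lsmul A M (mon x a)) := by
      refine le_antisymm (sup_le (le_sup_of_le_left le_sup_left) (iSup₂_le fun β hβ => ?_)) ?_
      · by_cases he : β = a
        · subst he; exact le_sup_right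
        · exact le_sup_of_le_left (le_sup_of_le_right (le_iSup₂_of_le β
            ((hmem β).1 (by simp [he, hβ])) le_rfl))
      · refine sup_le (sup_le le_sup_left (iSup₂_le fun β hβ => ?_)) ?_
        · exact le_sup_of_le_right (le_iSup₂_of_le β
            (fun h => (hmem β).2 hβ (Finset.mem_insert_of_mem h)) le_rfl)
        · exact le_sup_of_le_right (le_iSup₂_of_le a has le_rfl)
    rw [Finset.sum_insert has, h1, length_split _ (LinearMap.lsmul A M (mon x a)), ← h2, ih hs]
    rfl

theorem smul_top_le_J (N : Submodule A M) (α : Fin r → ℕ) :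
    Ideal.span (Set.range x) • (⊤ : Submodule A M) ≤ J x N α := by
  rw [Submodule.smul_le]
  intro a ha m _
  induction ha using Submodule.span_induction with
  | mem y hy =>
    obtain ⟨i, rfl⟩ := hy
    refine Submodule.mem_sup_right (Submodule.mem_iSup_of_mem (α + Pi.single i 1)
      (Submodule.mem_iSup_of_mem (key_lt_of_deg_lt (by rw [deg_add, deg_single]; omega)) ?_))
    refine ⟨m, ?_⟩
    show mon x (α + Pi.single i 1) • m = mon x α • x i • m
    rw [mon_add, mon_single, mul_smul]
  | zero => rw [zero_smul]; exact zero_mem _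
  | add a b _ _ ha hb => rw [add_smul]; exact add_mem ha hb
  | smul c a _ ha => rw [smul_assoc]; exact Submodule.smul_mem _ c ha

theorem J_le_add (N : Submodule A M) (α e : Fin r → ℕ) : J x N α ≤ J x N (α + e) := by
  intro m hm
  have key' : (N ⊔ gt M x α).map (LinearMap.lsmul A M (mon x e)) ≤ N ⊔ gt M x (α + e) := by
    rw [Submodule.map_sup]
    refine sup_le_sup ?_ ?_
    · rintro _ ⟨n, hn, rfl⟩
      exact N.smul_mem _ hn
    · rw [gt, Submodule.map_iSup]
      refine iSup_le fun β => ?_
      rw [Submodule.map_iSup]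
      refine iSup_le fun hβ => le_trans ?_ (le_iSup₂_of_le (β + e) (key_add_lt hβ e) le_rfl)
      rintro _ ⟨_, ⟨n, rfl⟩, rfl⟩
      refine ⟨n, ?_⟩
      show mon x (β + e) • n = mon x e • mon x β • n
      rw [mon_add, mul_comm, mul_smul]
  show mon x (α + e) • m ∈ N ⊔ gt M x (α + e)
  rw [mon_add, mul_comm, mul_smul]
  exact key' ⟨_, hm, rfl⟩

theorem J_mono {N N' : Submodule A M} (h : N ≤ N') (α : Fin r → ℕ) : J x N α ≤ J x N' α :=
  Submodule.comap_mono (sup_le_sup_right h _)

theorem J_eq_top {N : Submodule A M} {α : Fin r → ℕ} (h : piece M x α ≤ N) : J x N α = ⊤ :=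
  eq_top_iff.2 fun m _ => Submodule.mem_sup_left (h (smul_mem_piece x α m))

/-- exponents of degree `< t` -/
def degLt (r t : ℕ) : Finset (Fin r → ℕ) :=
  (Finset.range t).biUnion fun s => (Finset.univ : Finset (Fin r)).piAntidiag s

theorem mem_degLt {t : ℕ} {α : Fin r → ℕ} : α ∈ degLt r t ↔ deg α < t := by
  simp [degLt, deg]

theorem degLt_downClosed (t : ℕ) :
    ∀ α ∈ degLt r t, ∀ β, key β < key α → β ∈ degLt r t := fun α hα β hβ =>
  mem_degLt.2 ((deg_le_of_key_lt hβ).trans_lt (mem_degLt.1 hα))

theorem card_piAntidiag_fin (s : ℕ) :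
    ((Finset.univ : Finset (Fin r)).piAntidiag s).card = r.multichoose s := by
  rw [← Finset.map_sym_eq_piAntidiag, Finset.card_map, Finset.sym_univ, Finset.card_univ,
    Sym.card_sym_eq_multichoose, Fintype.card_fin]

theorem card_degLt_succ (t : ℕ) : (degLt r (t + 1)).card = (t + r).choose r := by
  rw [degLt, Finset.card_biUnion fun a _ b _ hab => Finset.disjoint_left.2 fun f hfa hfb => hab
    ((Finset.mem_piAntidiag.1 hfa).1.symm.trans (Finset.mem_piAntidiag.1 hfb).1)]
  simp only [card_piAntidiag_fin]
  rw [Nat.sum_range_multichoose]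

theorem card_degLt_bounds (t : ℕ) :
    (t + 1) ^ r ≤ r.factorial * (degLt r (t + 1)).card ∧
      r.factorial * (degLt r (t + 1)).card ≤ (t + r) ^ r := by
  rw [card_degLt_succ, ← Nat.ascFactorial_eq_factorial_mul_choose]
  exact ⟨Nat.pow_succ_le_ascFactorial _ _, Nat.ascFactorial_le_pow_add _ _⟩

theorem pow_smul_top_le_iSup (t : ℕ) :
    Ideal.span (Set.range x) ^ t • (⊤ : Submodule A M) ≤
      ⨆ β, ⨆ (_ : t ≤ deg β), piece M x β := by
  induction t with
  | zero =>
    refine le_trans le_top ?_
    rw [← piece_zero (M := M) x]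
    exact le_iSup₂_of_le (0 : Fin r → ℕ) (Nat.zero_le _) le_rfl
  | succ t ih =>
    rw [pow_succ', Submodule.mul_smul]
    refine le_trans (Submodule.smul_mono le_rfl ih) ?_
    rw [Submodule.smul_iSup]
    refine iSup_le fun β => ?_
    rw [Submodule.smul_iSup]
    refine iSup_le fun hβ => ?_
    rw [Submodule.smul_le]
    intro a ha m hm
    induction ha using Submodule.span_induction with
    | mem y hy =>
      obtain ⟨i, rfl⟩ := hy
      obtain ⟨n, rfl⟩ := hm
      refine Submodule.mem_iSup_of_mem (β + Pi.single i 1)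
        (Submodule.mem_iSup_of_mem (by rw [deg_add, deg_single]; omega) ⟨n, ?_⟩)
      show mon x (β + Pi.single i 1) • n = x i • mon x β • n
      rw [mon_add, mon_single, mul_comm, mul_smul]
    | zero => rw [zero_smul]; exact zero_mem _
    | add a b _ _ ha hb => rw [add_smul]; exact add_mem ha hb
    | smul c a _ ha => rw [smul_assoc]; exact Submodule.smul_mem _ c ha

theorem rest_bot_degLt (t : ℕ) :
    rest x (⊥ : Submodule A M) (degLt r t) = Ideal.span (Set.range x) ^ t • ⊤ := by
  refine le_antisymm (sup_le bot_le (iSup₂_le fun β hβ => ?_))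
    ((pow_smul_top_le_iSup x t).trans (le_sup_of_le_right (iSup₂_le fun β hβ =>
      le_iSup₂_of_le β (fun h => absurd (mem_degLt.1 h) hβ.not_gt) le_rfl)))
  rintro _ ⟨m, rfl⟩
  exact Submodule.smul_mem_smul (Ideal.pow_le_pow_right (le_of_not_gt fun h => hβ (mem_degLt.2 h))
    (mon_mem x β)) trivial

theorem rest_eq_self {N : Submodule A M} {S : Finset (Fin r → ℕ)}
    (h : ∀ β ∉ S, piece M x β ≤ N) : rest x N S = N :=
  le_antisymm (sup_le le_rfl (iSup₂_le h)) le_sup_left

theorem length_pow_smul (t : ℕ) :
    Module.length A (M ⧸ Ideal.span (Set.range x) ^ t • (⊤ : Submodule A M)) =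
      ∑ α ∈ degLt r t, Module.length A (M ⧸ J x (⊥ : Submodule A M) α) := by
  rw [← rest_bot_degLt, length_rest x _ _ (degLt_downClosed t)]

theorem length_quotient_J_le (N : Submodule A M) (α : Fin r → ℕ) :
    Module.length A (M ⧸ J x N α) ≤
      Module.length A (M ⧸ Ideal.span (Set.range x) • (⊤ : Submodule A M)) :=
  Module.length_le_of_surjective _ (Submodule.factor_surjective (smul_top_le_J x N α))

theorem length_pow_smul_le (t : ℕ) :
    Module.length A (M ⧸ Ideal.span (Set.range x) ^ t • (⊤ : Submodule A M)) ≤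
      (degLt r t).card • Module.length A (M ⧸ Ideal.span (Set.range x) • (⊤ : Submodule A M)) := by
  rw [length_pow_smul]
  exact Finset.sum_le_card_nsmul _ _ _ fun α _ => length_quotient_J_le x ⊥ α

theorem length_powers_le (n : ℕ) :
    Module.length A (M ⧸ Ideal.span (Set.range fun i => x i ^ n) • (⊤ : Submodule A M)) ≤
      ∑ α ∈ Fintype.piFinset fun _ => Finset.range n,
        Module.length A (M ⧸ J x (⊥ : Submodule A M) α) := by
  classical
  set N : Submodule A M := Ideal.span (Set.range fun i => x i ^ n) • (⊤ : Submodule A M) with hN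
  have hout : ∀ β : Fin r → ℕ, (∃ i, n ≤ β i) → piece M x β ≤ N := by
    rintro β ⟨i, hi⟩ _ ⟨m, rfl⟩
    show mon x β • m ∈ N
    refine Submodule.smul_mem_smul ?_ trivial
    rw [mon, Fintype.prod_eq_mul_prod_compl i, ← Nat.add_sub_cancel' hi, pow_add, mul_assoc]
    exact Ideal.mul_mem_right _ _ (Ideal.subset_span ⟨i, rfl⟩)
  have hlarge : ∀ β ∉ degLt r (r * n + 1), piece M x β ≤ N := fun β hβ => hout β (by
    by_contra! h
    refine hβ (mem_degLt.2 (Nat.lt_succ_of_le ?_))
    calc deg β ≤ ∑ _i : Fin r, n := Finset.sum_le_sum fun i _ => (h i).le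
      _ = r * n := by simp)
  conv_lhs => rw [← rest_eq_self x hlarge]
  rw [length_rest x _ _ (degLt_downClosed _)]
  calc _ = ∑ α ∈ (degLt r (r * n + 1)).filter (fun α => ∀ i, α i < n),
        Module.length A (M ⧸ J x N α) := by
        rw [Finset.sum_filter]
        refine Finset.sum_congr rfl fun α _ => ?_
        split_ifs with h
        · rfl
        · push Not at h
          have : Subsingleton (M ⧸ J x N α) :=
            Submodule.Quotient.subsingleton_iff.2 (J_eq_top x (hout α h))
          rw [Module.length_eq_zero]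
    _ ≤ ∑ α ∈ (degLt r (r * n + 1)).filter (fun α => ∀ i, α i < n),
        Module.length A (M ⧸ J x (⊥ : Submodule A M) α) :=
        Finset.sum_le_sum fun α _ => Module.length_le_of_surjective _
          (Submodule.factor_surjective (J_mono x bot_le α))
    _ ≤ _ := Finset.sum_le_sum_of_subset fun α hα => by
        simp only [Finset.mem_filter] at hα
        simpa [Fintype.mem_piFinset] using hα.2

end Groth.Agent.Lib.Lech
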