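import Groth.Agent.Lib.HilbertSamuel.Dim
import Groth.Agent.Lib.Koszul.Euler
import Groth.Agent.Lib.Lech.Mono

/-!
# Dimension and growth over an algebra generated by finitely many elements over an Artinian ring
-/

set_option linter.style.haveILetI false

universe u v

open Filter

namespace Groth.Agent.Lib.Lech.GrDim

open Groth.Agent.Lib.HilbertSamuel Basic Poly Main Dim

variable {A : Type u} [CommRing A]

section Converse

variable [IsNoetherianRing A] {I : Ideal A}

theorem growth_of_supportDim_le : ∀ (n : ℕ) (M : Type u) [AddCommGroup M]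
    [Module A M] [Module.Finite A M], Hyp I M → Module.supportDim A M ≤ n → Growth (chi I M) n := by
  intro n
  induction n with
  | zero =>
    intro M _ _ _ hM hd
    have hlt := CycAlg.Smul.length_lt_top_of_supportDim_le_zero M (by simpa using hd)
    refine ⟨(Module.length A M).toNat, fun t => ?_⟩
    rw [pow_zero, mul_one, chi, len]
    exact ENat.toNat_le_toNat (Module.length_le_of_surjective (Submodule.mkQ _) (Submodule.mkQ_surjective _)) hlt.ne
  | succ n ih =>
    intro M _ _ _ hM hd
    classical
    have hfin : {p | p ∈ (Module.annihilator A M).minimalPrimes ∧ ¬ I ≤ p}.Finite :=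
      ((Module.annihilator A M).finite_minimalPrimes_of_isNoetherianRing A).subset fun p hp => hp.1
    obtain ⟨x, hxI, hx⟩ : ∃ x ∈ I, ∀ p ∈ {p | p ∈ (Module.annihilator A M).minimalPrimes ∧ ¬ I ≤ p}, x ∉ p := by
      by_contra hc
      simp only [not_exists, not_and, not_forall, not_not, exists_prop] at hc
      have hsub : (I : Set A) ⊆ ⋃ p ∈ (hfin.toFinset : Set (Ideal A)), (p : Set A) := fun a ha => by
        obtain ⟨p, hp, hap⟩ := hc a ha
        exact Set.mem_iUnion₂.2 ⟨p, hfin.mem_toFinset.2 hp, hap⟩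
      obtain ⟨p, hp, hIp⟩ := (Ideal.subset_union_prime (f := id) ⊥ ⊥
        (fun p hp _ _ => (hfin.mem_toFinset.1 hp).1.1.1)).1 hsub
      exact (hfin.mem_toFinset.1 hp).2 hIp
    let g : M →ₗ[A] M := LinearMap.lsmul A M x
    let N' := M ⧸ LinearMap.range g
    let π : M →ₗ[A] N' := (LinearMap.range g).mkQ
    have hN' : Hyp I N' := hM.of_surjective π (LinearMap.range g).mkQ_surjective
    have hdim : Module.supportDim A N' ≤ n := by
      refine supportDim_le_of_forall fun l => ?_
      have hann : ∀ i, Module.annihilator A N' ≤ (l i).1.asIdeal := fun i =>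
        (PrimeSpectrum.mem_zeroLocus _ _).1 (Module.support_eq_zeroLocus.subset (l i).2)
      have hx0 : x ∈ (l 0).1.asIdeal := hann 0 (Module.mem_annihilator.2 fun z => by
        obtain ⟨z, rfl⟩ := (LinearMap.range g).mkQ_surjective z
        rw [← map_smul, Submodule.mkQ_apply, Submodule.Quotient.mk_eq_zero]
        exact ⟨z, rfl⟩)
      have hM0 : Module.annihilator A M ≤ (l 0).1.asIdeal :=
        (π.annihilator_le_of_surjective (LinearMap.range g).mkQ_surjective).trans (hann 0)
      obtain ⟨p, hp, hple⟩ := Ideal.exists_minimalPrimes_le hM0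
      haveI := hp.1.1
      have hpsupp : (⟨p, hp.1.1⟩ : PrimeSpectrum A) ∈ Module.support A M := by
        rw [Module.support_eq_zeroLocus]; exact hp.1.2
      by_cases hIp : I ≤ p
      · have hmax := hM _ hpsupp hIp
        by_contra hl
        have h0 : p = (l 0).1.asIdeal := hmax.eq_of_le (l 0).1.isPrime.ne_top hple
        have h01 := l.step ⟨0, by lia⟩
        exact (lt_of_le_of_lt h0.le (show (l 0).1.asIdeal < (l _).1.asIdeal from h01)).ne
          (hmax.eq_of_le (l (Fin.succ ⟨0, by lia⟩)).1.isPrime.ne_top (hple.trans (l.monotone (Fin.zero_le _))))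
      · have hne : (⟨p, hp.1.1⟩ : PrimeSpectrum A) < (l 0).1 := by
          refine lt_of_le_of_ne hple fun he => hx p ⟨hp, hIp⟩ ?_
          rw [← show p = (l 0).1.asIdeal from congrArg PrimeSpectrum.asIdeal he] at hx0
          exact hx0
        let l' : LTSeries (Module.support A M) := (l.map (fun q => (⟨q.1,
          Module.support_subset_of_surjective π (LinearMap.range g).mkQ_surjective q.2⟩ :
            Module.support A M)) (fun _ _ h => h)).cons ⟨_, hpsupp⟩ hne
        have := length_le_of_supportDim_le hd l'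
        have h2 : l'.length = l.length + 1 := by simp [l', LTSeries.map]
        lia
    obtain ⟨C, hC⟩ := ih N' hN' hdim
    have hstep : ∀ t, chi I M (t + 1) ≤ chi I M t + chi I N' (t + 1) := by
      intro t
      rw [chi_quotient hM hN' π (LinearMap.range g).mkQ_surjective (t + 1), Submodule.ker_mkQ]
      have hle : (I ^ t • ⊤ : Submodule A M) ≤ (I ^ (t + 1) • ⊤ : Submodule A M).comap g :=
        fun v hv => mul_mem_pow x hxI t hv
      have h1 := len_map_add hM hM g (T := ⊤) (S := I ^ (t + 1) • ⊤) le_rfl (j := t)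
        (by rw [top_inf_eq]; exact hle)
      rw [top_inf_eq, Submodule.map_top, show len (⊤ : Submodule A M) = 0 by simp [len]] at h1
      have h2 := len_anti hM hle le_rfl
      change len (I ^ (t + 1) • ⊤ : Submodule A M) ≤ len (I ^ t • ⊤ : Submodule A M) +
        len (I ^ (t + 1) • ⊤ ⊔ LinearMap.range g)
      lia
    refine ⟨C + chi I M 0, fun t => ?_⟩
    suffices h : chi I M t ≤ chi I M 0 + C * (t + 1) ^ (n + 1) by
      refine h.trans ?_
      rw [add_mul, add_comm]
      exact Nat.add_le_add_left (Nat.le_mul_of_pos_right _ (by positivity)) _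
    induction t with
    | zero => simp
    | succ t iht =>
      calc chi I M (t + 1) ≤ chi I M t + chi I N' (t + 1) := hstep t
        _ ≤ chi I M 0 + C * (t + 1) ^ (n + 1) + C * (t + 1 + 1) ^ n := Nat.add_le_add iht (hC _)
        _ ≤ chi I M 0 + C * ((t + 1) * (t + 1 + 1) ^ n + (t + 1 + 1) ^ n) := by
          rw [add_assoc, ← mul_add]
          refine Nat.add_le_add_left (Nat.mul_le_mul_left _ (Nat.add_le_add_right ?_ _)) _
          rw [pow_succ']
          exact Nat.mul_le_mul_left _ (Nat.pow_le_pow_left (Nat.le_succ _) _)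
        _ = _ := by ring

end Converse

section Filt

variable (A₀ : Type v) [CommRing A₀] [Algebra A₀ A] {r : ℕ} (y : Fin r → A)

/-- polynomials of degree `≤ t` in the generators -/
def W (t : ℕ) : Submodule A₀ A := Submodule.span A₀ (mon y '' {α | deg α ≤ t})

theorem W_mono {a b : ℕ} (h : a ≤ b) : W A₀ y a ≤ W A₀ y b :=
  Submodule.span_mono (Set.image_mono fun _ hα => le_trans hα h)

theorem finite_degSet (t : ℕ) : {α : Fin r → ℕ | deg α ≤ t}.Finite :=
  (degLt r (t + 1)).finite_toSet.subset fun _ hα => mem_degLt.2 (Nat.lt_succ_of_le hα)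

theorem W_fg (t : ℕ) : (W A₀ y t).FG := Submodule.fg_span ((finite_degSet t).image _)

theorem one_mem_W (t : ℕ) : (1 : A) ∈ W A₀ y t :=
  Submodule.subset_span ⟨0, by simp [deg], mon_zero y⟩

theorem W_mul {a b : ℕ} {u w : A} (hu : u ∈ W A₀ y a) (hw : w ∈ W A₀ y b) :
    u * w ∈ W A₀ y (a + b) := by
  induction hu using Submodule.span_induction with
  | mem u hu =>
    obtain ⟨α, hα, rfl⟩ := hu
    induction hw using Submodule.span_induction with
    | mem w hw =>
      obtain ⟨β, hβ, rfl⟩ := hw
      exact Submodule.subset_span ⟨α + β, by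
        show deg (α + β) ≤ a + b
        rw [deg_add]; exact add_le_add hα hβ, mon_add y α β⟩
    | zero => rw [mul_zero]; exact zero_mem _
    | add p q _ _ hp hq => rw [mul_add]; exact add_mem hp hq
    | smul c p _ hp => rw [mul_smul_comm]; exact Submodule.smul_mem _ c hp
  | zero => rw [zero_mul]; exact zero_mem _
  | add p q _ _ hp hq => rw [add_mul]; exact add_mem hp hq
  | smul c p _ hp => rw [smul_mul_assoc]; exact Submodule.smul_mem _ c hp

variable {M : Type u} [AddCommGroup M] [Module A M] [Module A₀ M] [IsScalarTower A₀ A M]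

/-- the filtration of `M` generated by `s` -/
def F (s : Finset M) (t : ℕ) : Submodule A₀ M :=
  ⨆ z ∈ s, (W A₀ y t).map ((LinearMap.toSpanSingleton A M z).restrictScalars A₀)

theorem F_mono (s : Finset M) {a b : ℕ} (h : a ≤ b) : F A₀ y s a ≤ F A₀ y s b :=
  iSup₂_mono fun _ _ => Submodule.map_mono (W_mono A₀ y h)

theorem F_fg (s : Finset M) (t : ℕ) : (F A₀ y s t).FG :=
  Submodule.fg_biSup _ _ fun _ _ => (W_fg A₀ y t).map _

theorem smul_mem_F {s : Finset M} {a b : ℕ} {u : A} (hu : u ∈ W A₀ y a) {z : M}
    (hz : z ∈ F A₀ y s b) : u • z ∈ F A₀ y s (a + b) := by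
  have h : (F A₀ y s b).map ((LinearMap.lsmul A M u).restrictScalars A₀) ≤ F A₀ y s (a + b) := by
    rw [F, Submodule.map_iSup]
    refine iSup_le fun g => ?_
    rw [Submodule.map_iSup]
    refine iSup_le fun hg => ?_
    rintro _ ⟨_, ⟨w, hw, rfl⟩, rfl⟩
    refine Submodule.mem_iSup_of_mem g (Submodule.mem_iSup_of_mem hg ⟨u * w, W_mul A₀ y hu hw, ?_⟩)
    exact mul_smul u w g
  exact h ⟨z, hz, rfl⟩

variable (hgen : ∀ a : A, ∃ t, a ∈ W A₀ y t)

include hgen

theorem mem_F_of_mem_span {s : Finset M} (hs : Submodule.span A (s : Set M) = ⊤) (z : M) :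
    ∃ t, z ∈ F A₀ y s t := by
  have hz : z ∈ Submodule.span A (s : Set M) := hs ▸ trivial
  induction hz using Submodule.span_induction with
  | mem g hg =>
    exact ⟨0, Submodule.mem_iSup_of_mem g (Submodule.mem_iSup_of_mem hg
      ⟨1, one_mem_W A₀ y 0, one_smul A g⟩)⟩
  | zero => exact ⟨0, zero_mem _⟩
  | add p q _ _ hp hq =>
    obtain ⟨a, ha⟩ := hp
    obtain ⟨b, hb⟩ := hq
    exact ⟨a + b, add_mem (F_mono A₀ y s (Nat.le_add_right _ _) ha)
      (F_mono A₀ y s (Nat.le_add_left _ _) hb)⟩
  | smul c p _ hp =>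
    obtain ⟨a, ha⟩ := hp
    obtain ⟨b, hb⟩ := hgen c
    exact ⟨b + a, smul_mem_F A₀ y hb ha⟩

omit hgen in
theorem length_F_ne_top [IsArtinianRing A₀] (s : Finset M) (t : ℕ) :
    Module.length A₀ (F A₀ y s t) ≠ ⊤ :=
  haveI : Module.Finite A₀ (F A₀ y s t) := Module.Finite.iff_fg.2 (F_fg A₀ y s t)
  Module.length_ne_top

omit hgen in
theorem length_map_add_le {N : Type u} [AddCommGroup N] [Module A₀ N] (P Q : Submodule A₀ M)
    (f : M →ₗ[A₀] N) (hQ : Q ≤ P) (hk : Q ≤ LinearMap.ker f) :
    Module.length A₀ (P.map f) + Module.length A₀ Q ≤ Module.length A₀ P := by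
  let g : P →ₗ[A₀] P.map f := f.submoduleMap P
  have hg : Function.Surjective g := f.submoduleMap_surjective P
  rw [Module.length_eq_add_of_exact (LinearMap.ker g).subtype g (Submodule.injective_subtype _) hg
    (LinearMap.exact_subtype_ker_map g), add_comm]
  refine add_le_add ?_ le_rfl
  refine Module.length_le_of_injective (LinearMap.codRestrict _ (Submodule.inclusion hQ) fun z =>
    LinearMap.mem_ker.2 (Subtype.ext ?_)) ?_
  · exact LinearMap.mem_ker.1 (hk z.2)
  · exact fun a b h => Submodule.inclusion_injective hQ (congrArg Subtype.val h)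

/-- The dimension is at most the order of growth of the filtration. -/
theorem supportDim_le_of_growth [IsNoetherianRing A] [IsArtinianRing A₀] : ∀ (n : ℕ) (M : Type u)
    [AddCommGroup M] [Module A M] [Module A₀ M] [IsScalarTower A₀ A M] (s : Finset M),
    Submodule.span A (s : Set M) = ⊤ →
    Growth (fun t => (Module.length A₀ (F A₀ y s t)).toNat) n → Module.supportDim A M ≤ n := by
  intro n
  induction n with
  | zero =>
    intro M _ _ _ _ s hs hg
    obtain ⟨C, hC⟩ := hg
    set g := fun t => (Module.length A₀ (F A₀ y s t)).toNat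
    have hcast : ∀ t, (g t : ℕ∞) = Module.length A₀ (F A₀ y s t) := fun t =>
      ENat.natCast_toNat (length_F_ne_top A₀ y s t)
    obtain ⟨T, hT⟩ : ∃ T, g (T + 1) ≤ g T := by
      by_contra! hne
      have : ∀ t, t ≤ g t := fun t => by
        induction t with
        | zero => exact Nat.zero_le _
        | succ t ih => have := hne t; omega
      have h1 := this (C + 1)
      have h2 := hC (C + 1)
      simp only [pow_zero, mul_one] at h2
      change g (C + 1) ≤ C at h2
      omega
    have heq : F A₀ y s (T + 1) ≤ F A₀ y s T := by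
      by_contra hne
      have hlt : F A₀ y s T < F A₀ y s (T + 1) :=
        lt_of_le_not_ge (F_mono A₀ y s (Nat.le_succ T)) hne
      haveI : Module.Finite A₀ (F A₀ y s (T + 1)) := Module.Finite.iff_fg.2 (F_fg A₀ y s (T + 1))
      have h := Submodule.length_lt (N := (F A₀ y s T).comap (F A₀ y s (T + 1)).subtype) (by
        rw [Ne, Submodule.comap_subtype_eq_top]
        exact hlt.not_ge)
      rw [(Submodule.comapSubtypeEquivOfLe hlt.le).length_eq, ← hcast, ← hcast, Nat.cast_lt] at h
      omega
    have hstab : ∀ t, T ≤ t → F A₀ y s t ≤ F A₀ y s T := fun t ht => by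
      induction t, ht using Nat.le_induction with
      | base => exact le_rfl
      | succ t ht ih =>
        refine le_trans ?_ heq
        refine iSup₂_le fun z hz => ?_
        rw [Submodule.map_le_iff_le_comap, W, Submodule.span_le]
        rintro _ ⟨α, hα, rfl⟩
        show mon y α • z ∈ F A₀ y s (T + 1)
        rcases Nat.eq_zero_or_pos (deg α) with h0 | h0
        · exact Submodule.mem_iSup_of_mem z (Submodule.mem_iSup_of_mem hz ⟨mon y α,
            Submodule.subset_span ⟨α, by simp [h0], rfl⟩, rfl⟩)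
        · obtain ⟨i, hi⟩ : ∃ i, α i ≠ 0 := by
            by_contra! hall
            rw [deg, Finset.sum_eq_zero fun i _ => hall i] at h0
            omega
          obtain ⟨β, rfl⟩ : ∃ β, α = Pi.single i 1 + β :=
            ⟨fun j => α j - (Pi.single i 1 : Fin r → ℕ) j, funext fun j => by
              rcases eq_or_ne j i with rfl | hne
              · simp only [Pi.add_apply, Pi.single_eq_same]; omega
              · simp [hne]⟩
          rw [mon_add, mul_smul, add_comm T 1]
          refine smul_mem_F A₀ y (Submodule.subset_span ⟨Pi.single i 1, ?_, rfl⟩) (ih ?_)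
          · show deg _ ≤ 1
            rw [deg_single]
          · refine Submodule.mem_iSup_of_mem z (Submodule.mem_iSup_of_mem hz ⟨mon y β,
              Submodule.subset_span ⟨β, ?_, rfl⟩, rfl⟩)
            have : deg (Pi.single i 1 + β) ≤ t + 1 := hα
            rw [deg_add, deg_single] at this
            show deg β ≤ t
            omega
    have htop : F A₀ y s T = ⊤ := eq_top_iff.2 fun z _ => by
      obtain ⟨t, ht⟩ := mem_F_of_mem_span A₀ y hgen hs z
      rcases le_total t T with h | h
      · exact F_mono A₀ y s h ht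
      · exact hstab t h ht
    have hfinM : Module.length A₀ M ≠ ⊤ := by
      rw [← Module.length_top, ← htop]
      exact length_F_ne_top A₀ y s T
    haveI : Module.Finite A M := ⟨⟨s, hs⟩⟩
    refine Koszul.Euler.supportDim_le_zero_of_isFiniteLength (Module.length_ne_top_iff.1 ?_)
    refine ne_top_of_le_ne_top hfinM ?_
    rw [← Module.length_top (R := A), ← Module.length_top (R := A₀)]
    exact Submodule.length_le_length_restrictScalars A₀ ⊤
  | succ n ih =>
    intro M _ _ _ _ s hs hg
    refine supportDim_le_of_forall fun l => ?_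
    by_contra hl
    have hpos : 0 < l.length := by omega
    haveI : Module.Finite A M := ⟨⟨s, hs⟩⟩
    obtain ⟨p, hp, hpl⟩ := Ideal.exists_minimalPrimes_le (I := Module.annihilator A M)
      ((PrimeSpectrum.mem_zeroLocus _ _).1 (Module.support_eq_zeroLocus.subset (l 0).2))
    have hass := Module.associatedPrimes.minimalPrimes_annihilator_subset_associatedPrimes A M hp
    haveI hpp : p.IsPrime := hp.1.1
    obtain ⟨-, m, hm⟩ := isAssociatedPrime_iff.1 hass
    let f : (A ⧸ p) →ₗ[A] M := Submodule.liftQ p (LinearMap.toSpanSingleton A M m) (by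
      intro a ha; rw [LinearMap.mem_ker]; rw [hm] at ha; simpa [Submodule.mem_colon_singleton] using ha)
    have hf : Function.Injective f := by
      rw [← LinearMap.ker_eq_bot, Submodule.ker_liftQ_eq_bot]
      intro a ha
      rw [hm]; simpa [Submodule.mem_colon_singleton] using ha
    have h01 := l.step ⟨0, hpos⟩
    obtain ⟨x, hx1, hxp⟩ := SetLike.exists_of_lt (lt_of_le_of_lt hpl
      (show (l 0).1.asIdeal < (l (Fin.succ ⟨0, hpos⟩)).1.asIdeal from h01))
    obtain ⟨e, he⟩ := hgen x
    obtain ⟨e', he'⟩ := mem_F_of_mem_span A₀ y hgen hs m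
    let q : A →ₗ[A₀] A ⧸ p := p.mkQ.restrictScalars A₀
    let q' : A →ₗ[A₀] A ⧸ (p ⊔ Ideal.span {x}) := (p ⊔ Ideal.span {x}).mkQ.restrictScalars A₀
    set G := fun t => (Module.length A₀ (F A₀ y s t)).toNat with hG
    set g1 := fun t => (Module.length A₀ ((W A₀ y t).map q)).toNat with hg1
    set g2 := fun t => (Module.length A₀ ((W A₀ y t).map q')).toNat with hg2
    have hfinW : ∀ (N : Type u) [AddCommGroup N] [Module A₀ N] (φ : A →ₗ[A₀] N) (t : ℕ),
        Module.length A₀ ((W A₀ y t).map φ) ≠ ⊤ := fun N _ _ φ t =>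
      haveI : Module.Finite A₀ ((W A₀ y t).map φ) := Module.Finite.iff_fg.2 ((W_fg A₀ y t).map φ)
      Module.length_ne_top
    have hc1 : ∀ t, (g1 t : ℕ∞) = Module.length A₀ ((W A₀ y t).map q) := fun t =>
      ENat.natCast_toNat (hfinW _ q t)
    have hc2 : ∀ t, (g2 t : ℕ∞) = Module.length A₀ ((W A₀ y t).map q') := fun t =>
      ENat.natCast_toNat (hfinW _ q' t)
    have hstep1 : ∀ t, g1 t ≤ G (t + e') := fun t => by
      refine ENat.toNat_le_toNat ?_ (length_F_ne_top A₀ y s _)
      refine Module.length_le_of_injective (LinearMap.codRestrict _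
        ((f.restrictScalars A₀) ∘ₗ ((W A₀ y t).map q).subtype) fun z => ?_) ?_
      · obtain ⟨_, w, hw, rfl⟩ := z
        exact smul_mem_F A₀ y hw he'
      · exact fun a b h => Subtype.ext (hf (congrArg Subtype.val h))
    have hstep2 : ∀ t, g2 (t + e) + g1 t ≤ g1 (t + e) := fun t => by
      let μ : (A ⧸ p) →ₗ[A₀] A ⧸ p := (LinearMap.lsmul A (A ⧸ p) x).restrictScalars A₀
      let π : (A ⧸ p) →ₗ[A₀] A ⧸ (p ⊔ Ideal.span {x}) :=
        (Submodule.factor (le_sup_left : p ≤ p ⊔ Ideal.span {x})).restrictScalars A₀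
      have hμ : Function.Injective μ := by
        rw [← LinearMap.ker_eq_bot, LinearMap.ker_eq_bot']
        intro v hv
        obtain ⟨v, rfl⟩ := Ideal.Quotient.mk_surjective v
        change Ideal.Quotient.mk p (x * v) = 0 at hv
        rw [Ideal.Quotient.eq_zero_iff_mem] at hv
        exact Ideal.Quotient.eq_zero_iff_mem.2 ((hpp.mem_or_mem hv).resolve_left hxp)
      have h := length_map_add_le A₀ ((W A₀ y (t + e)).map q) (((W A₀ y t).map q).map μ) π (by
        rintro _ ⟨_, ⟨w, hw, rfl⟩, rfl⟩
        exact ⟨x * w, by rw [add_comm t e]; exact W_mul A₀ y he hw, rfl⟩) (by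
        rintro _ ⟨_, ⟨w, hw, rfl⟩, rfl⟩
        refine LinearMap.mem_ker.2 ?_
        show Ideal.Quotient.mk (p ⊔ Ideal.span {x}) (x * w) = 0
        exact Ideal.Quotient.eq_zero_iff_mem.2 (Ideal.mem_sup_right
          (Ideal.mul_mem_right _ _ (Ideal.mem_span_singleton_self x))))
      rw [← (Submodule.equivMapOfInjective μ hμ _).length_eq, ← Submodule.map_comp, ← hc1, ← hc1,
        show π ∘ₗ q = q' from rfl, ← hc2, ← Nat.cast_add, Nat.cast_le] at h
      exact h
    have hmono2 : ∀ a b, a ≤ b → g2 a ≤ g2 b := fun a b h =>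
      ENat.toNat_le_toNat (Module.length_le_of_injective
        (Submodule.inclusion (Submodule.map_mono (W_mono A₀ y h)))
        (Submodule.inclusion_injective _)) (hfinW _ q' b)
    have htel : ∀ t m, m * g2 t ≤ g1 (t + m * e) := fun t m => by
      induction m with
      | zero => simp
      | succ m ihm =>
        have h1 := hstep2 (t + m * e)
        have h2 := hmono2 t (t + m * e + e) (by omega)
        rw [show t + (m + 1) * e = t + m * e + e by ring, add_mul, one_mul]
        omega
    obtain ⟨C, hC⟩ := hg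
    have hgrowth : Growth g2 n := ⟨C * (e + e' + 2) ^ (n + 1), fun t => by
      refine Nat.le_of_mul_le_mul_left ?_ (Nat.succ_pos t)
      refine ((htel t (t + 1)).trans ((hstep1 _).trans (hC _))).trans ?_
      have : t + (t + 1) * e + e' + 1 ≤ (e + e' + 2) * (t + 1) := by nlinarith
      refine (Nat.mul_le_mul_left _ (Nat.pow_le_pow_left this _)).trans (le_of_eq ?_)
      rw [mul_pow, Nat.succ_eq_add_one]; ring⟩
    have hN' := ih (A ⧸ (p ⊔ Ideal.span {x})) {1} (by
      rw [Finset.coe_singleton, eq_top_iff]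
      intro z _
      obtain ⟨z, rfl⟩ := Ideal.Quotient.mk_surjective z
      exact Submodule.mem_span_singleton.2 ⟨z, by rw [Algebra.smul_def, mul_one]; rfl⟩) (by
      have hF : ∀ t, F A₀ y ({1} : Finset (A ⧸ (p ⊔ Ideal.span {x}))) t = (W A₀ y t).map q' := fun t => by
        rw [F, Finset.iSup_singleton]
        congr 1
        exact LinearMap.ext fun w => by
          show w • (1 : A ⧸ (p ⊔ Ideal.span {x})) = _
          rw [Algebra.smul_def, mul_one]; rfl
      rw [show (fun t => (Module.length A₀
        (F A₀ y ({1} : Finset (A ⧸ (p ⊔ Ideal.span {x}))) t)).toNat) = g2 from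
        funext fun t => by rw [hF]]
      exact hgrowth)
    have hsupp : ∀ i : Fin (l.length + 1), 0 < i.1 →
        (l i).1 ∈ Module.support A (A ⧸ (p ⊔ Ideal.span {x})) := by
      intro i hi
      rw [Module.support_eq_zeroLocus, Ideal.annihilator_quotient]
      refine (PrimeSpectrum.mem_zeroLocus _ _).2 ?_
      refine sup_le (hpl.trans (l.monotone (Fin.zero_le i))) ((Ideal.span_singleton_le_iff_mem _).2 ?_)
      exact (show (l (Fin.succ ⟨0, hpos⟩)).1.asIdeal ≤ (l i).1.asIdeal from
        l.monotone (Fin.le_iff_val_le_val.2 hi)) hx1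
    let l' : LTSeries (Module.support A (A ⧸ (p ⊔ Ideal.span {x}))) :=
      { length := l.length - 1
        toFun := fun i => ⟨(l ⟨i.1 + 1, by omega⟩).1, hsupp _ (Nat.succ_pos _)⟩
        step := fun i => (l.strictMono (a := ⟨i.1 + 1, by omega⟩) (b := ⟨i.1 + 1 + 1, by omega⟩)
          (Fin.lt_iff_val_lt_val.2 (by simp)) :) }
    have := length_le_of_supportDim_le hN' l'
    change l.length - 1 ≤ n at this
    omega

end Filt

end Groth.Agent.Lib.Lech.GrDim
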