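import Groth.Agent.Lib.Lech.Clamp

/-!
# Lech's inequality, elementary proof by the monomial filtration
-/

universe u

open Filter Topology

namespace Groth.Agent.Lib.Lech

variable {A : Type u} [CommRing A] {r : ℕ} (x : Fin r → A)

theorem mul_mem_gt_of_right {α : Fin r → ℕ} {g : A} (hg : g ∈ gt A x α) (e : Fin r → ℕ) (c : A) :
    mon x e * c * g ∈ gt A x (α + e) := by
  have h : (gt A x α).map (LinearMap.lsmul A A (mon x e * c)) ≤ gt A x (α + e) := by
    rw [gt, Submodule.map_iSup]
    refine iSup_le fun β => ?_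
    rw [Submodule.map_iSup]
    refine iSup_le fun hβ => le_trans ?_ (le_iSup₂_of_le (β + e) (key_add_lt hβ e) le_rfl)
    rintro _ ⟨_, ⟨n, rfl⟩, rfl⟩
    refine ⟨c * n, ?_⟩
    show mon x (β + e) * (c * n) = mon x e * c * (mon x β * n)
    rw [mon_add]; ring
  exact h ⟨g, hg, rfl⟩

theorem gt_antitone {α β : Fin r → ℕ} (h : key α < key β) : gt A x β ≤ gt A x α :=
  iSup₂_le fun γ hγ => le_iSup₂_of_le γ (h.trans hγ) le_rfl

theorem mul_mem_gt {α β : Fin r → ℕ} {g g' : A} (hg : g ∈ gt A x α) (hg' : g' ∈ gt A x β) :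
    g * g' ∈ gt A x (α + β) := by
  have h : (gt A x β).map (LinearMap.lsmul A A g) ≤ gt A x (α + β) := by
    rw [gt, Submodule.map_iSup]
    refine iSup_le fun γ => ?_
    rw [Submodule.map_iSup]
    refine iSup_le fun hγ => ?_
    rintro _ ⟨_, ⟨n, rfl⟩, rfl⟩
    refine gt_antitone x (α := α + β) (β := α + γ)
      (by rw [add_comm α β, add_comm α γ]; exact key_add_lt hγ α) ?_
    show g * (mon x γ * n) ∈ gt A x (α + γ)
    rw [mul_comm g]
    exact mul_mem_gt_of_right x hg γ n
  exact h ⟨g', hg', rfl⟩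

theorem mon_nsmul_mem {I : Ideal A} {β : Fin r → ℕ} (h : mon x β ∈ I ⊔ gt A x β) (n : ℕ) :
    mon x (n • β) ∈ I ^ n ⊔ gt A x (n • β) := by
  obtain ⟨j, hj, g, hg, hjg⟩ := Submodule.mem_sup.1 h
  suffices H : ∃ G ∈ gt A x (n • β), j ^ n + G = mon x (n • β) by
    obtain ⟨G, hG, hjG⟩ := H
    exact Submodule.mem_sup.2 ⟨j ^ n, Ideal.pow_mem_pow hj n, G, hG, hjG⟩
  induction n with
  | zero => exact ⟨0, zero_mem _, by simp [mon_zero]⟩
  | succ n ih =>
    obtain ⟨G, hG, hjG⟩ := ih
    refine ⟨G * mon x β + mon x (n • β) * g - G * g, ?_, ?_⟩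
    · rw [succ_nsmul]
      refine sub_mem (add_mem ?_ ?_) (mul_mem_gt x hG hg)
      · rw [mul_comm, ← mul_one (mon x β)]
        exact mul_mem_gt_of_right x hG β 1
      · rw [add_comm (n • β) β, ← mul_one (mon x (n • β))]
        exact mul_mem_gt_of_right x hg (n • β) 1
    · rw [succ_nsmul, mon_add, pow_succ,
        show j = mon x β - g from eq_sub_of_add_eq hjg] at *
      rw [show (mon x β - g) ^ n = mon x (n • β) - G from eq_sub_of_add_eq hjG]
      ring

/-- Lech's inequality for the ideal generated by `x`. -/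
theorem lech_inequality (hfl : Module.length A (A ⧸ Ideal.span (Set.range x)) ≠ ⊤) (I : Ideal A)
    {N : ℕ} (hN : Ideal.span (Set.range x) ^ N ≤ I) {d : ℕ} {e eI : ℝ}
    (he : Tendsto (fun t : ℕ => (d.factorial : ℝ) *
      ((Module.length A (A ⧸ Ideal.span (Set.range x) ^ t)).toNat : ℝ) / (t : ℝ) ^ d) atTop (𝓝 e))
    (heI : Tendsto (fun n : ℕ => (d.factorial : ℝ) *
      ((Module.length A (A ⧸ I ^ n)).toNat : ℝ) / (n : ℝ) ^ d) atTop (𝓝 eI)) :
    eI ≤ (d.factorial : ℝ) * e * ((Module.length A (A ⧸ I)).toNat : ℝ) := by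
  classical
  set q := Ideal.span (Set.range x) with hq
  have hlen : ∀ J : Ideal A, Module.length A (A ⧸ J • (⊤ : Submodule A A)) =
      Module.length A (A ⧸ J) := fun J =>
    (Submodule.quotEquivOfEq _ _ (show J • (⊤ : Submodule A A) = J from Ideal.mul_top J)).length_eq
  set c : (Fin r → ℕ) → ℕ :=
    fun α => (Module.length A (A ⧸ J x (⊥ : Submodule A A) α)).toNat with hcdef
  have hne : ∀ (J' : Submodule A A) α, Module.length A (A ⧸ J x J' α) ≠ ⊤ := fun J' α =>
    ne_top_of_le_ne_top (by rwa [hlen]) (length_quotient_J_le x J' α)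
  have hcast : ∀ α, (c α : ℕ∞) = Module.length A (A ⧸ J x (⊥ : Submodule A A) α) := fun α =>
    ENat.natCast_toNat (hne ⊥ α)
  have hanti : ∀ α β : Fin r → ℕ, α ≤ β → c β ≤ c α := fun α β h => by
    obtain ⟨f, rfl⟩ : ∃ f, β = α + f :=
      ⟨fun i => β i - α i, funext fun i => (Nat.add_sub_cancel' (h i)).symm⟩
    exact ENat.toNat_le_toNat (Module.length_le_of_surjective _
      (Submodule.factor_surjective (J_le_add x (⊥ : Submodule A A) α f))) (hne ⊥ α)
  have hsimp : Tendsto (fun t : ℕ => ((∑ α ∈ degLt r t, c α : ℕ) : ℝ) / (t : ℝ) ^ d) atTop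
      (𝓝 (e / d.factorial)) := by
    refine (he.div_const (d.factorial : ℝ)).congr fun t => ?_
    rw [← hlen, length_pow_smul, ← Finset.sum_congr rfl fun α _ => hcast α, ← Nat.cast_sum,
      ENat.toNat_natCast]
    field_simp
  have hbox := tendsto_box_of_simplex c hanti hsimp
  set B := (degLt r N).filter fun β => J x I β ≠ (⊤ : Submodule A A) with hB
  have hpieceI : ∀ β ∉ degLt r N, piece A x β ≤ I := by
    rintro β hβ _ ⟨m, rfl⟩
    exact I.mul_mem_right _
      (hN (Ideal.pow_le_pow_right (le_of_not_gt fun h => hβ (mem_degLt.2 h)) (mon_mem x β)))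
  have hcard : (B.card : ℕ∞) ≤ Module.length A (A ⧸ I) := by
    rw [← rest_eq_self x hpieceI, length_rest x _ _ (degLt_downClosed N)]
    calc (B.card : ℕ∞) = ∑ _β ∈ B, (1 : ℕ∞) := by simp
      _ ≤ ∑ β ∈ B, Module.length A (A ⧸ J x I β) := Finset.sum_le_sum fun β hβ => by
          have : Nontrivial (A ⧸ J x I β) :=
            Submodule.Quotient.nontrivial_iff.2 (Finset.mem_filter.1 hβ).2
          exact Order.one_le_iff_pos.2 Module.length_pos
      _ ≤ _ := Finset.sum_le_sum_of_subset (Finset.filter_subset _ _)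
  have hIfin : Module.length A (A ⧸ I) ≠ ⊤ := by
    refine ne_top_of_le_ne_top ?_ (Module.length_le_of_surjective _ (Submodule.factor_surjective hN))
    rw [← hlen, length_pow_smul, ← Finset.sum_congr rfl fun α _ => hcast α, ← Nat.cast_sum]
    exact ENat.natCast_ne_top _
  have hbound : ∀ n : ℕ, 0 < n →
      Module.length A (A ⧸ I ^ n) ≤ ((B.card * ∑ α ∈ box r n, c α : ℕ) : ℕ∞) := by
    intro n hn
    have hp : ∀ β ∉ degLt r (N * n), piece A x β ≤ I ^ n := by
      rintro β hβ _ ⟨m, rfl⟩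
      refine (I ^ n).mul_mem_right _ ?_
      have := Ideal.pow_le_pow_right (le_of_not_gt fun h => hβ (mem_degLt.2 h)) (mon_mem x β)
      rw [pow_mul] at this
      exact Ideal.pow_right_mono hN n this
    rw [← rest_eq_self x hp, length_rest x _ _ (degLt_downClosed _)]
    let fl : (Fin r → ℕ) → (Fin r → ℕ) := fun α i => α i / n
    have hzero : ∀ α ∈ degLt r (N * n), fl α ∉ B →
        Module.length A (A ⧸ J x (I ^ n) α) = 0 := by
      intro α _ hα
      have htop : J x I (fl α) = (⊤ : Submodule A A) := by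
        by_cases hmem : fl α ∈ degLt r N
        · by_contra hne'
          exact hα (Finset.mem_filter.2 ⟨hmem, hne'⟩)
        · exact J_eq_top x (hpieceI _ hmem)
      have h1 : (1 : A) ∈ J x I (fl α) := htop ▸ Submodule.mem_top
      have h1' : mon x (fl α) ∈ I ⊔ gt A x (fl α) := by simpa [J] using h1
      have h2 : (1 : A) ∈ J x (I ^ n) (n • fl α) := by
        simpa [J] using mon_nsmul_mem x h1' n
      have h3 : (1 : A) ∈ J x (I ^ n) α := by
        have hle := J_le_add x (I ^ n : Submodule A A) (n • fl α) (fun i => α i % n) h2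
        rwa [show n • fl α + (fun i => α i % n) = α from funext fun i => by
          simp [fl, Nat.div_add_mod]] at hle
      have : Subsingleton (A ⧸ J x (I ^ n) α) :=
        Submodule.Quotient.subsingleton_iff.2 ((Ideal.eq_top_iff_one _).2 h3)
      rw [Module.length_eq_zero]
    rw [← Finset.sum_filter_of_ne (p := fun α => fl α ∈ B)
      fun α hα h0 => not_not.1 fun hB' => h0 (hzero α hα hB')]
    calc (∑ α ∈ (degLt r (N * n)).filter (fun α => fl α ∈ B), Module.length A (A ⧸ J x (I ^ n) α))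
        ≤ ∑ α ∈ (degLt r (N * n)).filter (fun α => fl α ∈ B),
            ((c (fun i => α i % n) : ℕ) : ℕ∞) := Finset.sum_le_sum fun α _ => by
          rw [hcast]
          refine (Module.length_le_of_surjective _
            (Submodule.factor_surjective (J_mono x bot_le α))).trans ?_
          rw [← hcast, ← hcast, Nat.cast_le]
          exact hanti _ _ fun i => Nat.mod_le _ _
      _ ≤ ∑ p ∈ B ×ˢ box r n, ((c p.2 : ℕ) : ℕ∞) := by
          have hinj : Set.InjOn (fun α => (fl α, fun i => α i % n))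
              ((degLt r (N * n)).filter (fun α => fl α ∈ B)) := fun a _ b _ hab => funext fun i => by
            simp only [Prod.mk.injEq] at hab
            rw [← Nat.div_add_mod (a i) n, ← Nat.div_add_mod (b i) n]
            rw [show a i / n = b i / n from congrFun hab.1 i,
              show a i % n = b i % n from congrFun hab.2 i]
          rw [← Finset.sum_image (f := fun p : (Fin r → ℕ) × (Fin r → ℕ) => ((c p.2 : ℕ) : ℕ∞)) hinj]
          refine Finset.sum_le_sum_of_subset fun p hp => ?_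
          obtain ⟨α, hα, rfl⟩ := Finset.mem_image.1 hp
          exact Finset.mem_product.2 ⟨(Finset.mem_filter.1 hα).2,
            mem_box.2 fun i => Nat.mod_lt _ hn⟩
      _ = _ := by
          simp [Finset.sum_product, nsmul_eq_mul]
  have hlim : Tendsto (fun n : ℕ => (d.factorial : ℝ) *
      ((Module.length A (A ⧸ I)).toNat : ℝ) * (((∑ α ∈ box r n, c α : ℕ) : ℝ) / (n : ℝ) ^ d))
      atTop (𝓝 ((d.factorial : ℝ) * ((Module.length A (A ⧸ I)).toNat : ℝ) * e)) :=
    hbox.const_mul _
  refine (le_of_tendsto_of_tendsto heI hlim ?_).trans_eq (by ring)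
  filter_upwards [eventually_gt_atTop 0] with n hn
  have h1 : (Module.length A (A ⧸ I ^ n)).toNat ≤
      (Module.length A (A ⧸ I)).toNat * ∑ α ∈ box r n, c α := by
    refine (ENat.toNat_le_toNat (hbound n hn) (ENat.natCast_ne_top _)).trans ?_
    rw [ENat.toNat_natCast]
    refine Nat.mul_le_mul_right _ ?_
    simpa using ENat.toNat_le_toNat hcard hIfin
  have h2 : ((Module.length A (A ⧸ I ^ n)).toNat : ℝ) ≤
      ((Module.length A (A ⧸ I)).toNat : ℝ) * ((∑ α ∈ box r n, c α : ℕ) : ℝ) := by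
    exact_mod_cast h1
  rw [mul_assoc, ← mul_div_assoc, ← mul_div_assoc]
  exact div_le_div_of_nonneg_right (mul_le_mul_of_nonneg_left h2 (by positivity)) (by positivity)

end Groth.Agent.Lib.Lech
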