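import Groth.Agent.Lib.Lech.Clamp

/-!
# Lengths along an ordered spanning family of maps
-/

universe u v w

namespace Groth.Agent.Lib.Lech

variable {A : Type u} [CommRing A] {M : Type v} [AddCommGroup M] [Module A M]
  {V : Type w} [AddCommGroup V] [Module A V] {ι : Type*} {L : Type*} [LinearOrder L]

theorem length_split' (P : Submodule A M) (f : V →ₗ[A] M) :
    Module.length A (M ⧸ P) =
      Module.length A (V ⧸ P.comap f) + Module.length A (M ⧸ (P ⊔ LinearMap.range f)) := by
  refine Module.length_eq_add_of_exact (Submodule.mapQ (P.comap f) P f le_rfl)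
    (Submodule.factor (le_sup_left : P ≤ P ⊔ LinearMap.range f)) ?_
    (Submodule.factor_surjective _) ?_
  · rw [← LinearMap.ker_eq_bot, Submodule.ker_mapQ, Submodule.mkQ_map_self]
  · rw [LinearMap.exact_iff, Submodule.range_mapQ, Submodule.factor, Submodule.ker_mapQ,
      Submodule.comap_id, Submodule.map_sup, Submodule.mkQ_map_self, bot_sup_eq]

/-- `N` plus the ranges of the members of `S` after `a`. -/
def after (N : Submodule A M) (f : ι → V →ₗ[A] M) (key : ι → L) (S : Finset ι) (a : ι) :
    Submodule A M :=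
  N ⊔ ⨆ b, ⨆ (_ : b ∈ S ∧ key a < key b), LinearMap.range (f b)

theorem length_ordSpan (N : Submodule A M) (f : ι → V →ₗ[A] M) (key : ι → L)
    (hkey : Function.Injective key) (S : Finset ι) :
    Module.length A (M ⧸ N) = Module.length A (M ⧸ (N ⊔ ⨆ b ∈ S, LinearMap.range (f b))) +
      ∑ a ∈ S, Module.length A (V ⧸ (after N f key S a).comap (f a)) := by
  classical
  induction S using Finset.induction_on_min_value key with
  | empty =>
    rw [Finset.sum_empty, add_zero]
    exact (Submodule.quotEquivOfEq _ _ (by simp)).length_eq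
  | insert a s has hmin ih =>
    have h1 : after N f key (insert a s) a = N ⊔ ⨆ b ∈ s, LinearMap.range (f b) := by
      refine le_antisymm (sup_le le_sup_left (iSup₂_le fun b hb => ?_))
        (sup_le le_sup_left (iSup₂_le fun b hb => ?_))
      · rcases Finset.mem_insert.1 hb.1 with rfl | h
        · exact absurd hb.2 (lt_irrefl _)
        · exact le_sup_of_le_right (le_iSup₂_of_le b h le_rfl)
      · exact le_sup_of_le_right (le_iSup₂_of_le b ⟨Finset.mem_insert_of_mem hb,
          lt_of_le_of_ne (hmin b hb) fun h => has (hkey h ▸ hb)⟩ le_rfl)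
    have h2 : ∀ b ∈ s, after N f key (insert a s) b = after N f key s b := fun b hb => by
      refine le_antisymm (sup_le le_sup_left (iSup₂_le fun c hc => ?_))
        (sup_le le_sup_left (iSup₂_le fun c hc => ?_))
      · rcases Finset.mem_insert.1 hc.1 with rfl | h
        · exact absurd (hmin b hb) hc.2.not_ge
        · exact le_sup_of_le_right (le_iSup₂_of_le c ⟨h, hc.2⟩ le_rfl)
      · exact le_sup_of_le_right (le_iSup₂_of_le c ⟨Finset.mem_insert_of_mem hc.1, hc.2⟩ le_rfl)
    rw [ih, Finset.sum_insert has, h1, length_split' (N ⊔ ⨆ b ∈ s, LinearMap.range (f b)) (f a),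
      Finset.iSup_insert, sup_comm (LinearMap.range (f a)), ← sup_assoc,
      Finset.sum_congr rfl fun b hb => by rw [← h2 b hb]]
    abel

/-- multiplying by a scalar can only enlarge the colon -/
theorem comap_after_le {M' : Type*} [AddCommGroup M']
    [Module A M'] {N : Submodule A M} {N' : Submodule A M'} {f : ι → V →ₗ[A] M}
    {κ : Type*} {f' : κ → V →ₗ[A] M'} {key : ι → L} {key' : κ → L} {S : Finset ι} {S' : Finset κ}
    {a : ι} {a' : κ} (g : M →ₗ[A] M') (σ : ι → κ) (ha : g ∘ₗ f a = f' a')
    (hN : N.map g ≤ N') (hf : ∀ b ∈ S, g ∘ₗ f b = f' (σ b))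
    (hS : ∀ b ∈ S, key a < key b → σ b ∈ S' ∧ key' a' < key' (σ b)) :
    (after N f key S a).comap (f a) ≤ (after N' f' key' S' a').comap (f' a') := by
  intro m hm
  have h : (after N f key S a).map g ≤ after N' f' key' S' a' := by
    rw [after, Submodule.map_sup, Submodule.map_iSup]
    refine sup_le_sup hN (iSup_le fun b => ?_)
    rw [Submodule.map_iSup]
    refine iSup_le fun hb => le_iSup₂_of_le (σ b) (hS b hb.1 hb.2) ?_
    rw [← LinearMap.range_comp, hf b hb.1]
  show f' a' m ∈ after N' f' key' S' a'
  rw [← ha]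
  exact h ⟨f a m, hm, rfl⟩

end Groth.Agent.Lib.Lech
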